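import Cfsg.Agent.R2.PX.DdI

/-!
# Pattern X: the invariant form of the Lie algebra (helper3)

`kap z w = trace (del z * del w)` : `kap_L` invariance, `kap_dd : kap z (dd x y) = sf (del z x) y`, `kap_nondeg`;
`kap_dd_dd : kap (dd x y) (dd u v) = sf (DD x y u) v`.
-/

set_option autoImplicit false

namespace Cfsg.Agent.R2.PX

open Cfsg Cfsg.Lie Matrix
open Cfsg.Agent.R2.T1
open Cfsg.Agent.H943.E7V.Block (D1 rho)

universe u
variable {F : Type u} [Field F]

/-- the trace form -/
noncomputable def kap (F : Type u) [Field F] : (chevE7.Idx → F) →ₗ[F] (chevE7.Idx → F) →ₗ[F] F :=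
  LinearMap.mk₂ F (fun z w => Matrix.trace (del F z * del F w))
    (fun z z' w => by rw [map_add, Matrix.add_mul, Matrix.trace_add])
    (fun c z w => by rw [map_smul, Matrix.smul_mul, Matrix.trace_smul, smul_eq_mul])
    (fun z w w' => by rw [map_add, Matrix.mul_add, Matrix.trace_add])
    (fun c z w => by rw [map_smul, Matrix.mul_smul, Matrix.trace_smul, smul_eq_mul])

theorem kap_apply (z w : chevE7.Idx → F) : kap F z w = Matrix.trace (del F z * del F w) := rfl

theorem kap_comm (z w : chevE7.Idx → F) : kap F z w = kap F w z := by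
  rw [kap_apply, kap_apply, Matrix.trace_mul_comm]

theorem rho_inv_mul (g : Gh F) : rho F g⁻¹ * rho F g = 1 := by rw [← map_mul, inv_mul_cancel, map_one]

theorem rho_mul_inv (g : Gh F) : rho F g * rho F g⁻¹ = 1 := by rw [← map_mul, mul_inv_cancel, map_one]

section five
variable [CharP F 5]

theorem del_L (g : Gh F) (z : chevE7.Idx → F) : del F (L F g z) = rho F g * del F z * rho F g⁻¹ := by
  rw [L_adM, Matrix.toLin'_apply, del_equi two_ne g z, Matrix.mul_assoc, rho_mul_inv, Matrix.mul_one]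

theorem del_L_mulVec (g : Gh F) (z : chevE7.Idx → F) (v : D1 → F) :
    del F (L F g z) *ᵥ V F g v = V F g (del F z *ᵥ v) := by
  rw [del_L, V_apply, V_apply, Matrix.mulVec_mulVec, Matrix.mulVec_mulVec, Matrix.mul_assoc, rho_inv_mul, Matrix.mul_one]

/-- invariance -/
theorem kap_L (g : Gh F) (z w : chevE7.Idx → F) : kap F (L F g z) (L F g w) = kap F z w := by
  rw [kap_apply, kap_apply, del_L, del_L]
  have h1 : rho F g * del F z * rho F g⁻¹ * (rho F g * del F w * rho F g⁻¹) =
      rho F g * (del F z * del F w * rho F g⁻¹) := by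
    rw [Matrix.mul_assoc, Matrix.mul_assoc, ← Matrix.mul_assoc (rho F g⁻¹), ← Matrix.mul_assoc (rho F g⁻¹), rho_inv_mul,
      Matrix.one_mul, Matrix.mul_assoc]
  rw [h1, Matrix.trace_mul_comm, Matrix.mul_assoc, rho_inv_mul, Matrix.mul_one]

theorem kap_dd (z : chevE7.Idx → F) (x y : D1 → F) : kap F z (dd x y) = sf F (del F z *ᵥ x) y := by
  rw [kap_apply, del_dd, trace_del_DD']

theorem kap_dd_dd (x y u v : D1 → F) : kap F (dd x y) (dd u v) = sf F (DD F x y *ᵥ u) v := by
  rw [kap_dd, del_dd]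

theorem kap_nondeg {z : chevE7.Idx → F} (h : ∀ w, kap F z w = 0) : z = 0 := by
  apply del_inj
  refine mat_ext fun b => ?_
  rw [Matrix.zero_mulVec]
  exact sf_nondeg' fun y => by rw [← kap_dd, h]

/-- `x` pure -/
theorem dd_eq_zero_iff (x y : D1 → F) : dd x y = 0 ↔ DD F x y = 0 := by
  constructor
  · intro h; rw [← del_dd, h, map_zero]
  · intro h; rw [← del_dd] at h; exact del_inj h

/-- the multiplier of a similitude on `DD` -/
theorem IsSim.mul {Θ : (D1 → F) ≃ₗ[F] (D1 → F)} {b : F} (h : IsSim F Θ b) (x y z : D1 → F) :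
    DD F (Θ x) (Θ y) *ᵥ Θ z = b • Θ (DD F x y *ᵥ z) := h.dd x y z

end five

end Cfsg.Agent.R2.PX
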