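import Mathlib

/-!
# Pattern X (S5771): the split octonions as Zorn matrices (helper5)
-/

set_option autoImplicit false

namespace Cfsg.Agent.R2.PX

universe u

/-- split octonions (Zorn matrices) -/
@[ext] structure Oct (k : Type u) where
  a : k
  b : k
  u1 : k
  u2 : k
  u3 : k
  v1 : k
  v2 : k
  v3 : k

namespace Oct

section CR
variable {k : Type u} [CommRing k]

instance : Zero (Oct k) := ⟨⟨0, 0, 0, 0, 0, 0, 0, 0⟩⟩
instance : One (Oct k) := ⟨⟨1, 1, 0, 0, 0, 0, 0, 0⟩⟩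
instance : Add (Oct k) := ⟨fun x y => ⟨x.a + y.a, x.b + y.b, x.u1 + y.u1, x.u2 + y.u2, x.u3 + y.u3, x.v1 + y.v1,
  x.v2 + y.v2, x.v3 + y.v3⟩⟩
instance : Neg (Oct k) := ⟨fun x => ⟨-x.a, -x.b, -x.u1, -x.u2, -x.u3, -x.v1, -x.v2, -x.v3⟩⟩
instance : Sub (Oct k) := ⟨fun x y => ⟨x.a - y.a, x.b - y.b, x.u1 - y.u1, x.u2 - y.u2, x.u3 - y.u3, x.v1 - y.v1,
  x.v2 - y.v2, x.v3 - y.v3⟩⟩
instance : SMul k (Oct k) := ⟨fun c x => ⟨c * x.a, c * x.b, c * x.u1, c * x.u2, c * x.u3, c * x.v1, c * x.v2,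
  c * x.v3⟩⟩
instance : Mul (Oct k) := ⟨fun x y =>
  ⟨x.a * y.a + (x.u1 * y.v1 + x.u2 * y.v2 + x.u3 * y.v3),
   x.b * y.b + (x.v1 * y.u1 + x.v2 * y.u2 + x.v3 * y.u3),
   x.a * y.u1 + y.b * x.u1 - (x.v2 * y.v3 - x.v3 * y.v2),
   x.a * y.u2 + y.b * x.u2 - (x.v3 * y.v1 - x.v1 * y.v3),
   x.a * y.u3 + y.b * x.u3 - (x.v1 * y.v2 - x.v2 * y.v1),
   y.a * x.v1 + x.b * y.v1 + (x.u2 * y.u3 - x.u3 * y.u2),
   y.a * x.v2 + x.b * y.v2 + (x.u3 * y.u1 - x.u1 * y.u3),
   y.a * x.v3 + x.b * y.v3 + (x.u1 * y.u2 - x.u2 * y.u1)⟩⟩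

/-- conjugation -/
def cj (x : Oct k) : Oct k := ⟨x.b, x.a, -x.u1, -x.u2, -x.u3, -x.v1, -x.v2, -x.v3⟩

/-- trace -/
def tr (x : Oct k) : k := x.a + x.b

/-- norm -/
def N (x : Oct k) : k := x.a * x.b - (x.u1 * x.v1 + x.u2 * x.v2 + x.u3 * x.v3)

/-- the polar form of the norm -/
def bl (x y : Oct k) : k := x.a * y.b + x.b * y.a - (x.u1 * y.v1 + x.u2 * y.v2 + x.u3 * y.v3) -
  (x.v1 * y.u1 + x.v2 * y.u2 + x.v3 * y.u3)

/-- the trilinear form -/
def tr3 (x y z : Oct k) : k := tr ((x * y) * z)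

section simps
variable (x y : Oct k) (c : k)
theorem zero_a : (0 : Oct k).a = 0 := rfl
theorem zero_b : (0 : Oct k).b = 0 := rfl
theorem zero_u1 : (0 : Oct k).u1 = 0 := rfl
theorem zero_u2 : (0 : Oct k).u2 = 0 := rfl
theorem zero_u3 : (0 : Oct k).u3 = 0 := rfl
theorem zero_v1 : (0 : Oct k).v1 = 0 := rfl
theorem zero_v2 : (0 : Oct k).v2 = 0 := rfl
theorem zero_v3 : (0 : Oct k).v3 = 0 := rfl
theorem one_a : (1 : Oct k).a = 1 := rfl
theorem one_b : (1 : Oct k).b = 1 := rfl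
theorem one_u1 : (1 : Oct k).u1 = 0 := rfl
theorem one_u2 : (1 : Oct k).u2 = 0 := rfl
theorem one_u3 : (1 : Oct k).u3 = 0 := rfl
theorem one_v1 : (1 : Oct k).v1 = 0 := rfl
theorem one_v2 : (1 : Oct k).v2 = 0 := rfl
theorem one_v3 : (1 : Oct k).v3 = 0 := rfl
theorem add_a : (x + y).a = x.a + y.a := rfl
theorem add_b : (x + y).b = x.b + y.b := rfl
theorem add_u1 : (x + y).u1 = x.u1 + y.u1 := rfl
theorem add_u2 : (x + y).u2 = x.u2 + y.u2 := rfl
theorem add_u3 : (x + y).u3 = x.u3 + y.u3 := rfl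
theorem add_v1 : (x + y).v1 = x.v1 + y.v1 := rfl
theorem add_v2 : (x + y).v2 = x.v2 + y.v2 := rfl
theorem add_v3 : (x + y).v3 = x.v3 + y.v3 := rfl
theorem neg_a : (-x).a = -x.a := rfl
theorem neg_b : (-x).b = -x.b := rfl
theorem neg_u1 : (-x).u1 = -x.u1 := rfl
theorem neg_u2 : (-x).u2 = -x.u2 := rfl
theorem neg_u3 : (-x).u3 = -x.u3 := rfl
theorem neg_v1 : (-x).v1 = -x.v1 := rfl
theorem neg_v2 : (-x).v2 = -x.v2 := rfl
theorem neg_v3 : (-x).v3 = -x.v3 := rfl
theorem sub_a : (x - y).a = x.a - y.a := rfl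
theorem sub_b : (x - y).b = x.b - y.b := rfl
theorem sub_u1 : (x - y).u1 = x.u1 - y.u1 := rfl
theorem sub_u2 : (x - y).u2 = x.u2 - y.u2 := rfl
theorem sub_u3 : (x - y).u3 = x.u3 - y.u3 := rfl
theorem sub_v1 : (x - y).v1 = x.v1 - y.v1 := rfl
theorem sub_v2 : (x - y).v2 = x.v2 - y.v2 := rfl
theorem sub_v3 : (x - y).v3 = x.v3 - y.v3 := rfl
theorem smul_a : (c • x).a = c * x.a := rfl
theorem smul_b : (c • x).b = c * x.b := rfl
theorem smul_u1 : (c • x).u1 = c * x.u1 := rfl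
theorem smul_u2 : (c • x).u2 = c * x.u2 := rfl
theorem smul_u3 : (c • x).u3 = c * x.u3 := rfl
theorem smul_v1 : (c • x).v1 = c * x.v1 := rfl
theorem smul_v2 : (c • x).v2 = c * x.v2 := rfl
theorem smul_v3 : (c • x).v3 = c * x.v3 := rfl
theorem mul_a : (x * y).a = x.a * y.a + (x.u1 * y.v1 + x.u2 * y.v2 + x.u3 * y.v3) := rfl
theorem mul_b : (x * y).b = x.b * y.b + (x.v1 * y.u1 + x.v2 * y.u2 + x.v3 * y.u3) := rfl
theorem mul_u1 : (x * y).u1 = x.a * y.u1 + y.b * x.u1 - (x.v2 * y.v3 - x.v3 * y.v2) := rfl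
theorem mul_u2 : (x * y).u2 = x.a * y.u2 + y.b * x.u2 - (x.v3 * y.v1 - x.v1 * y.v3) := rfl
theorem mul_u3 : (x * y).u3 = x.a * y.u3 + y.b * x.u3 - (x.v1 * y.v2 - x.v2 * y.v1) := rfl
theorem mul_v1 : (x * y).v1 = y.a * x.v1 + x.b * y.v1 + (x.u2 * y.u3 - x.u3 * y.u2) := rfl
theorem mul_v2 : (x * y).v2 = y.a * x.v2 + x.b * y.v2 + (x.u3 * y.u1 - x.u1 * y.u3) := rfl
theorem mul_v3 : (x * y).v3 = y.a * x.v3 + x.b * y.v3 + (x.u1 * y.u2 - x.u2 * y.u1) := rfl
theorem cj_a : (cj x).a = x.b := rfl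
theorem cj_b : (cj x).b = x.a := rfl
theorem cj_u1 : (cj x).u1 = -x.u1 := rfl
theorem cj_u2 : (cj x).u2 = -x.u2 := rfl
theorem cj_u3 : (cj x).u3 = -x.u3 := rfl
theorem cj_v1 : (cj x).v1 = -x.v1 := rfl
theorem cj_v2 : (cj x).v2 = -x.v2 := rfl
theorem cj_v3 : (cj x).v3 = -x.v3 := rfl
end simps

/-- unfold the coordinates -/
macro "oct_simp" l:(Lean.Parser.Tactic.location)? : tactic => `(tactic| simp only [Oct.zero_a, Oct.zero_b, Oct.zero_u1, Oct.zero_u2, Oct.zero_u3,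
  Oct.zero_v1, Oct.zero_v2, Oct.zero_v3, Oct.one_a, Oct.one_b, Oct.one_u1, Oct.one_u2, Oct.one_u3,
  Oct.one_v1, Oct.one_v2, Oct.one_v3, Oct.add_a, Oct.add_b, Oct.add_u1, Oct.add_u2, Oct.add_u3,
  Oct.add_v1, Oct.add_v2, Oct.add_v3, Oct.neg_a, Oct.neg_b, Oct.neg_u1, Oct.neg_u2, Oct.neg_u3,
  Oct.neg_v1, Oct.neg_v2, Oct.neg_v3, Oct.sub_a, Oct.sub_b, Oct.sub_u1, Oct.sub_u2, Oct.sub_u3,
  Oct.sub_v1, Oct.sub_v2, Oct.sub_v3, Oct.smul_a, Oct.smul_b, Oct.smul_u1, Oct.smul_u2, Oct.smul_u3,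
  Oct.smul_v1, Oct.smul_v2, Oct.smul_v3, Oct.mul_a, Oct.mul_b, Oct.mul_u1, Oct.mul_u2, Oct.mul_u3,
  Oct.mul_v1, Oct.mul_v2, Oct.mul_v3, Oct.cj_a, Oct.cj_b, Oct.cj_u1, Oct.cj_u2, Oct.cj_u3,
  Oct.cj_v1, Oct.cj_v2, Oct.cj_v3, Oct.tr, Oct.N, Oct.bl, Oct.tr3] $[$l]?)

/-- prove an identity of octonions by coordinates -/
macro "oct_ring" : tactic => `(tactic| (apply Oct.ext <;> oct_simp <;> ring))

instance : AddCommGroup (Oct k) where
  add_assoc x y z := by oct_ring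
  zero_add x := by oct_ring
  add_zero x := by oct_ring
  nsmul := nsmulRec
  neg_add_cancel x := by oct_ring
  add_comm x y := by oct_ring
  sub_eq_add_neg x y := by oct_ring
  zsmul := zsmulRec

instance : Module k (Oct k) where
  one_smul x := by oct_ring
  mul_smul c d x := by oct_ring
  smul_zero c := by oct_ring
  smul_add c x y := by oct_ring
  add_smul c d x := by oct_ring
  zero_smul x := by oct_ring

instance : NonAssocRing (Oct k) where
  left_distrib x y z := by oct_ring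
  right_distrib x y z := by oct_ring
  zero_mul x := by oct_ring
  mul_zero x := by oct_ring
  one_mul x := by oct_ring
  mul_one x := by oct_ring
  neg_add_cancel := neg_add_cancel
  sub_eq_add_neg := sub_eq_add_neg
  nsmul := nsmulRec
  zsmul := zsmulRec
  natCast n := (n : k) • (1 : Oct k)
  natCast_zero := by rw [Nat.cast_zero, zero_smul]
  natCast_succ n := by rw [Nat.cast_succ, add_smul, one_smul]
  intCast n := (n : k) • (1 : Oct k)
  intCast_ofNat n := by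
    show ((n : ℤ) : k) • (1 : Oct k) = (n : k) • (1 : Oct k)
    rw [Int.cast_natCast]
  intCast_negSucc n := by
    show ((Int.negSucc n : ℤ) : k) • (1 : Oct k) = -(((n + 1 : ℕ) : k) • (1 : Oct k))
    rw [Int.cast_negSucc, neg_smul]

instance : IsScalarTower k (Oct k) (Oct k) := ⟨fun c x y => by
  show (c • x) * y = c • (x * y)
  oct_ring⟩

instance : SMulCommClass k (Oct k) (Oct k) := ⟨fun c x y => by
  show c • (x * y) = x * (c • y)
  oct_ring⟩

variable (x y z w : Oct k) (c : k)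

theorem smul_mul : (c • x) * y = c • (x * y) := smul_mul_assoc c x y
theorem mul_smul' : x * (c • y) = c • (x * y) := mul_smul_comm c x y

theorem cj_cj : cj (cj x) = x := by oct_ring
theorem cj_add : cj (x + y) = cj x + cj y := by oct_ring
theorem cj_sub : cj (x - y) = cj x - cj y := by oct_ring
theorem cj_neg : cj (-x) = -cj x := by oct_ring
theorem cj_smul : cj (c • x) = c • cj x := by oct_ring
theorem cj_one : cj (1 : Oct k) = 1 := by oct_ring
theorem cj_zero : cj (0 : Oct k) = 0 := by oct_ring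
theorem cj_mul : cj (x * y) = cj y * cj x := by oct_ring
theorem cj_eq : cj x = tr x • (1 : Oct k) - x := by oct_ring
theorem mul_cj : x * cj x = N x • (1 : Oct k) := by oct_ring
theorem cj_mul_self : cj x * x = N x • (1 : Oct k) := by oct_ring
theorem mul_cj_add : x * cj y + y * cj x = bl x y • (1 : Oct k) := by oct_ring
theorem cj_mul_add : cj x * y + cj y * x = bl x y • (1 : Oct k) := by oct_ring

theorem N_mul : N (x * y) = N x * N y := by oct_simp; ring
theorem N_cj : N (cj x) = N x := by oct_simp; ring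
theorem N_smul : N (c • x) = c ^ 2 * N x := by oct_simp; ring
theorem N_neg : N (-x) = N x := by oct_simp; ring
theorem N_add : N (x + y) = N x + N y + bl x y := by oct_simp; ring
theorem N_one : N (1 : Oct k) = 1 := by oct_simp; ring
theorem N_zero : N (0 : Oct k) = 0 := by oct_simp; ring

theorem tr_add : tr (x + y) = tr x + tr y := by oct_simp; ring
theorem tr_sub : tr (x - y) = tr x - tr y := by oct_simp; ring
theorem tr_neg : tr (-x) = -tr x := by oct_simp; ring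
theorem tr_smul : tr (c • x) = c * tr x := by oct_simp; ring
theorem tr_one : tr (1 : Oct k) = 2 := by oct_simp; ring
theorem tr_zero : tr (0 : Oct k) = 0 := by oct_simp; ring
theorem tr_cj : tr (cj x) = tr x := by oct_simp; ring
theorem tr_mul_comm : tr (x * y) = tr (y * x) := by oct_simp; ring
theorem tr_assoc : tr ((x * y) * z) = tr (x * (y * z)) := by oct_simp; ring

theorem bl_comm : bl x y = bl y x := by oct_simp; ring
theorem bl_add_left : bl (x + y) z = bl x z + bl y z := by oct_simp; ring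
theorem bl_add_right : bl x (y + z) = bl x y + bl x z := by oct_simp; ring
theorem bl_sub_left : bl (x - y) z = bl x z - bl y z := by oct_simp; ring
theorem bl_sub_right : bl x (y - z) = bl x y - bl x z := by oct_simp; ring
theorem bl_smul_left : bl (c • x) y = c * bl x y := by oct_simp; ring
theorem bl_smul_right : bl x (c • y) = c * bl x y := by oct_simp; ring
theorem bl_neg_left : bl (-x) y = -bl x y := by oct_simp; ring
theorem bl_neg_right : bl x (-y) = -bl x y := by oct_simp; ring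
theorem bl_zero_left : bl 0 y = 0 := by oct_simp; ring
theorem bl_zero_right : bl x 0 = 0 := by oct_simp; ring
theorem bl_self : bl x x = 2 * N x := by oct_simp; ring
theorem bl_one : bl x 1 = tr x := by oct_simp; ring
theorem one_bl : bl 1 x = tr x := by oct_simp; ring
theorem bl_eq_tr : bl x y = tr (x * cj y) := by oct_simp; ring
theorem tr_mul : tr (x * y) = bl x (cj y) := by oct_simp; ring
theorem bl_cj_cj : bl (cj x) (cj y) = bl x y := by oct_simp; ring
theorem bl_mul_left : bl (x * y) (x * z) = N x * bl y z := by oct_simp; ring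
theorem bl_mul_right : bl (x * z) (y * z) = N z * bl x y := by oct_simp; ring
theorem bl_mul_adj : bl (x * y) z = bl y (cj x * z) := by oct_simp; ring
theorem bl_mul_adj' : bl (x * y) z = bl x (z * cj y) := by oct_simp; ring

theorem tr3_cycle : tr3 x y z = tr3 y z x := by oct_simp; ring
theorem tr3_eq : tr3 x y z = bl x (cj (y * z)) := by oct_simp; ring
theorem tr3_eq' : tr3 x y z = bl (x * y) (cj z) := by oct_simp; ring

/-- linearised left alternativity -/
theorem left_alt : x * (cj y * z) + y * (cj x * z) = bl x y • z := by oct_ring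
/-- linearised right alternativity -/
theorem right_alt : (z * cj x) * y + (z * cj y) * x = bl x y • z := by oct_ring
theorem cj_mul_mul : cj x * (x * y) = N x • y := by oct_ring
theorem mul_cj_mul : x * (cj x * y) = N x • y := by oct_ring
theorem mul_mul_cj : (y * x) * cj x = N x • y := by oct_ring
theorem mul_cj_mul' : (y * cj x) * x = N x • y := by oct_ring
theorem flex : (x * y) * x = x * (y * x) := by oct_ring
theorem flex' : (cj x * y) * x = cj x * (y * x) := by oct_ring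
theorem flex'' : (x * y) * cj x = x * (y * cj x) := by oct_ring
/-- the middle Moufang identity -/
theorem moufang : (z * x) * (y * z) = (z * (x * y)) * z := by oct_ring

end CR

section F
variable {k : Type u} [Field k]

/-- nondegeneracy -/
theorem eq_zero_of_bl {x : Oct k} (h : ∀ y, bl x y = 0) : x = 0 := by
  have h1 := h ⟨1, 0, 0, 0, 0, 0, 0, 0⟩
  have h2 := h ⟨0, 1, 0, 0, 0, 0, 0, 0⟩
  have h3 := h ⟨0, 0, 1, 0, 0, 0, 0, 0⟩
  have h4 := h ⟨0, 0, 0, 1, 0, 0, 0, 0⟩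
  have h5 := h ⟨0, 0, 0, 0, 1, 0, 0, 0⟩
  have h6 := h ⟨0, 0, 0, 0, 0, 1, 0, 0⟩
  have h7 := h ⟨0, 0, 0, 0, 0, 0, 1, 0⟩
  have h8 := h ⟨0, 0, 0, 0, 0, 0, 0, 1⟩
  oct_simp at h1 h2 h3 h4 h5 h6 h7 h8
  simp only [mul_zero, mul_one, add_zero, zero_add, sub_zero, zero_sub, neg_eq_zero] at h1 h2 h3 h4 h5 h6 h7 h8
  apply Oct.ext <;> assumption

theorem eq_of_bl {x y : Oct k} (h : ∀ z, bl x z = bl y z) : x = y := by
  rw [← sub_eq_zero]
  apply eq_zero_of_bl
  intro z
  rw [bl_sub_left, h, sub_self]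

end F

end Oct

end Cfsg.Agent.R2.PX
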