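import Mathlib
import Cfsg.Agent.R2.PX.Oct

/-!
# Pattern X (S5771): the Albert algebra and the 56-dimensional module (helper5)
-/

set_option autoImplicit false

namespace Cfsg.Agent.R2.PX

universe u

/-- the Albert algebra -/
@[ext] structure Alb (k : Type u) where
  l1 : k
  l2 : k
  l3 : k
  a1 : Oct k
  a2 : Oct k
  a3 : Oct k

/-- the 56-dimensional module -/
@[ext] structure Fts (k : Type u) where
  al : k
  A : Alb k
  B : Alb k
  be : k

namespace Alb
section CR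
variable {k : Type u} [CommRing k]

instance : Zero (Alb k) := ⟨⟨0, 0, 0, 0, 0, 0⟩⟩
instance : Add (Alb k) := ⟨fun x y => ⟨x.l1 + y.l1, x.l2 + y.l2, x.l3 + y.l3, x.a1 + y.a1, x.a2 + y.a2, x.a3 + y.a3⟩⟩
instance : Sub (Alb k) := ⟨fun x y => ⟨x.l1 - y.l1, x.l2 - y.l2, x.l3 - y.l3, x.a1 - y.a1, x.a2 - y.a2, x.a3 - y.a3⟩⟩
instance : Neg (Alb k) := ⟨fun x => ⟨-x.l1, -x.l2, -x.l3, -x.a1, -x.a2, -x.a3⟩⟩
instance : SMul k (Alb k) := ⟨fun c x => ⟨c * x.l1, c * x.l2, c * x.l3, c • x.a1, c • x.a2, c • x.a3⟩⟩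

variable (x y : Alb k) (c : k)
theorem zero_l1 : (0 : Alb k).l1 = 0 := rfl
theorem add_l1 : (x + y).l1 = x.l1 + y.l1 := rfl
theorem sub_l1 : (x - y).l1 = x.l1 - y.l1 := rfl
theorem neg_l1 : (-x).l1 = -x.l1 := rfl
theorem smul_l1 : (c • x).l1 = c * x.l1 := rfl
theorem zero_l2 : (0 : Alb k).l2 = 0 := rfl
theorem add_l2 : (x + y).l2 = x.l2 + y.l2 := rfl
theorem sub_l2 : (x - y).l2 = x.l2 - y.l2 := rfl
theorem neg_l2 : (-x).l2 = -x.l2 := rfl
theorem smul_l2 : (c • x).l2 = c * x.l2 := rfl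
theorem zero_l3 : (0 : Alb k).l3 = 0 := rfl
theorem add_l3 : (x + y).l3 = x.l3 + y.l3 := rfl
theorem sub_l3 : (x - y).l3 = x.l3 - y.l3 := rfl
theorem neg_l3 : (-x).l3 = -x.l3 := rfl
theorem smul_l3 : (c • x).l3 = c * x.l3 := rfl
theorem zero_a1 : (0 : Alb k).a1 = 0 := rfl
theorem add_a1 : (x + y).a1 = x.a1 + y.a1 := rfl
theorem sub_a1 : (x - y).a1 = x.a1 - y.a1 := rfl
theorem neg_a1 : (-x).a1 = -x.a1 := rfl
theorem smul_a1 : (c • x).a1 = c • x.a1 := rfl
theorem zero_a2 : (0 : Alb k).a2 = 0 := rfl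
theorem add_a2 : (x + y).a2 = x.a2 + y.a2 := rfl
theorem sub_a2 : (x - y).a2 = x.a2 - y.a2 := rfl
theorem neg_a2 : (-x).a2 = -x.a2 := rfl
theorem smul_a2 : (c • x).a2 = c • x.a2 := rfl
theorem zero_a3 : (0 : Alb k).a3 = 0 := rfl
theorem add_a3 : (x + y).a3 = x.a3 + y.a3 := rfl
theorem sub_a3 : (x - y).a3 = x.a3 - y.a3 := rfl
theorem neg_a3 : (-x).a3 = -x.a3 := rfl
theorem smul_a3 : (c • x).a3 = c • x.a3 := rfl

/-- unfold the coordinates -/
macro "alb_simp" l:(Lean.Parser.Tactic.location)? : tactic => `(tactic| simp only [Alb.zero_l1, Alb.add_l1, Alb.sub_l1, Alb.neg_l1, Alb.smul_l1, Alb.zero_l2, Alb.add_l2, Alb.sub_l2, Alb.neg_l2, Alb.smul_l2, Alb.zero_l3, Alb.add_l3, Alb.sub_l3, Alb.neg_l3, Alb.smul_l3, Alb.zero_a1, Alb.add_a1, Alb.sub_a1, Alb.neg_a1, Alb.smul_a1, Alb.zero_a2, Alb.add_a2, Alb.sub_a2, Alb.neg_a2, Alb.smul_a2, Alb.zero_a3, Alb.add_a3, Alb.sub_a3, Alb.neg_a3, Alb.smul_a3] $[$l]?)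

instance : AddCommGroup (Alb k) where
  add_assoc x y z := by apply Alb.ext <;> alb_simp <;> exact add_assoc _ _ _
  zero_add x := by apply Alb.ext <;> alb_simp <;> exact zero_add _
  add_zero x := by apply Alb.ext <;> alb_simp <;> exact add_zero _
  nsmul := nsmulRec
  neg_add_cancel x := by apply Alb.ext <;> alb_simp <;> exact neg_add_cancel _
  add_comm x y := by apply Alb.ext <;> alb_simp <;> exact add_comm _ _
  sub_eq_add_neg x y := by apply Alb.ext <;> alb_simp <;> exact sub_eq_add_neg _ _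
  zsmul := zsmulRec

instance : Module k (Alb k) where
  one_smul x := by apply Alb.ext <;> alb_simp <;> exact one_smul k _
  mul_smul c d x := by apply Alb.ext <;> alb_simp <;> exact mul_smul c d _
  smul_zero c := by apply Alb.ext <;> alb_simp <;> exact smul_zero c
  smul_add c x y := by apply Alb.ext <;> alb_simp <;> exact smul_add c _ _
  add_smul c d x := by apply Alb.ext <;> alb_simp <;> exact add_smul c d _
  zero_smul x := by apply Alb.ext <;> alb_simp <;> exact zero_smul k _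

/-- the trace form -/
def T (x y : Alb k) : k := x.l1 * y.l1 + x.l2 * y.l2 + x.l3 * y.l3 + (Oct.bl x.a1 y.a1 + Oct.bl x.a2 y.a2 + Oct.bl x.a3 y.a3)

/-- the adjoint -/
def sh (x : Alb k) : Alb k :=
  ⟨x.l2 * x.l3 - Oct.N x.a1, x.l3 * x.l1 - Oct.N x.a2, x.l1 * x.l2 - Oct.N x.a3,
   Oct.cj (x.a2 * x.a3) - x.l1 • x.a1, Oct.cj (x.a3 * x.a1) - x.l2 • x.a2, Oct.cj (x.a1 * x.a2) - x.l3 • x.a3⟩

/-- the polar form of the adjoint -/
def cr (x y : Alb k) : Alb k :=
  ⟨x.l2 * y.l3 + y.l2 * x.l3 - Oct.bl x.a1 y.a1, x.l3 * y.l1 + y.l3 * x.l1 - Oct.bl x.a2 y.a2,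
   x.l1 * y.l2 + y.l1 * x.l2 - Oct.bl x.a3 y.a3,
   Oct.cj (x.a2 * y.a3) + Oct.cj (y.a2 * x.a3) - x.l1 • y.a1 - y.l1 • x.a1,
   Oct.cj (x.a3 * y.a1) + Oct.cj (y.a3 * x.a1) - x.l2 • y.a2 - y.l2 • x.a2,
   Oct.cj (x.a1 * y.a2) + Oct.cj (y.a1 * x.a2) - x.l3 • y.a3 - y.l3 • x.a3⟩

/-- the norm -/
def N (x : Alb k) : k := x.l1 * x.l2 * x.l3 - x.l1 * Oct.N x.a1 - x.l2 * Oct.N x.a2 - x.l3 * Oct.N x.a3 + Oct.tr3 x.a1 x.a2 x.a3

variable (z w : Alb k)

theorem T_comm : T x y = T y x := by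
  unfold T
  rw [Oct.bl_comm x.a1, Oct.bl_comm x.a2, Oct.bl_comm x.a3]
  ring
theorem T_add_left : T (x + y) z = T x z + T y z := by
  unfold T
  alb_simp
  rw [Oct.bl_add_left, Oct.bl_add_left, Oct.bl_add_left]
  ring
theorem T_smul_left : T (c • x) z = c * T x z := by
  unfold T
  alb_simp
  rw [Oct.bl_smul_left, Oct.bl_smul_left, Oct.bl_smul_left]
  ring
theorem T_add_right : T z (x + y) = T z x + T z y := by rw [T_comm, T_add_left, T_comm x, T_comm y]
theorem T_smul_right : T z (c • x) = c * T z x := by rw [T_comm, T_smul_left, T_comm]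
theorem T_zero_left : T 0 z = 0 := by
  have := T_smul_left (0 : Alb k) (0 : k) z
  rwa [smul_zero, zero_mul] at this
theorem T_zero_right : T z 0 = 0 := by rw [T_comm, T_zero_left]
theorem T_neg_left : T (-x) z = -T x z := by
  have := T_smul_left x (-1 : k) z
  rwa [neg_one_smul, neg_one_mul] at this
theorem T_neg_right : T z (-x) = -T z x := by rw [T_comm, T_neg_left, T_comm]
theorem T_sub_left : T (x - y) z = T x z - T y z := by rw [sub_eq_add_neg, T_add_left, T_neg_left, sub_eq_add_neg]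
theorem T_sub_right : T z (x - y) = T z x - T z y := by rw [T_comm, T_sub_left, T_comm x, T_comm y]

theorem cr_comm : cr x y = cr y x := by
  apply Alb.ext <;> simp only [cr, Oct.bl_comm] <;> first | ring | abel
theorem cr_add_left : cr (x + y) z = cr x z + cr y z := by
  apply Alb.ext <;> simp only [cr] <;> alb_simp <;>
    simp only [Oct.bl_add_left, add_mul, mul_add, Oct.cj_add, add_smul, smul_add] <;> first | ring | abel
theorem cr_smul_left : cr (c • x) z = c • cr x z := by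
  apply Alb.ext <;> simp only [cr] <;> alb_simp <;>
    simp only [Oct.bl_smul_left, smul_mul_assoc, mul_smul_comm, Oct.cj_smul, mul_smul, smul_add, smul_sub,
      smul_comm _ c] <;> first | ring | abel
theorem cr_add_right : cr z (x + y) = cr z x + cr z y := by rw [cr_comm, cr_add_left, cr_comm x, cr_comm y]
theorem cr_smul_right : cr z (c • x) = c • cr z x := by rw [cr_comm, cr_smul_left, cr_comm]
theorem cr_zero_left : cr 0 z = 0 := by
  have := cr_smul_left (0 : Alb k) (0 : k) z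
  rwa [smul_zero, zero_smul] at this
theorem cr_zero_right : cr z 0 = 0 := by rw [cr_comm, cr_zero_left]
theorem cr_self : cr x x = (2 : k) • sh x := by
  apply Alb.ext <;> simp only [cr, sh] <;> alb_simp <;> simp only [Oct.bl_self, smul_sub, two_smul] <;> first | ring | abel

end CR
end Alb

namespace Fts
section CR
variable {k : Type u} [CommRing k]

instance : Zero (Fts k) := ⟨⟨0, 0, 0, 0⟩⟩
instance : Add (Fts k) := ⟨fun x y => ⟨x.al + y.al, x.A + y.A, x.B + y.B, x.be + y.be⟩⟩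
instance : Sub (Fts k) := ⟨fun x y => ⟨x.al - y.al, x.A - y.A, x.B - y.B, x.be - y.be⟩⟩
instance : Neg (Fts k) := ⟨fun x => ⟨-x.al, -x.A, -x.B, -x.be⟩⟩
instance : SMul k (Fts k) := ⟨fun c x => ⟨c * x.al, c • x.A, c • x.B, c * x.be⟩⟩

variable (x y : Fts k) (c : k)
theorem zero_al : (0 : Fts k).al = 0 := rfl
theorem add_al : (x + y).al = x.al + y.al := rfl
theorem sub_al : (x - y).al = x.al - y.al := rfl
theorem neg_al : (-x).al = -x.al := rfl
theorem smul_al : (c • x).al = c * x.al := rfl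
theorem zero_A : (0 : Fts k).A = 0 := rfl
theorem add_A : (x + y).A = x.A + y.A := rfl
theorem sub_A : (x - y).A = x.A - y.A := rfl
theorem neg_A : (-x).A = -x.A := rfl
theorem smul_A : (c • x).A = c • x.A := rfl
theorem zero_B : (0 : Fts k).B = 0 := rfl
theorem add_B : (x + y).B = x.B + y.B := rfl
theorem sub_B : (x - y).B = x.B - y.B := rfl
theorem neg_B : (-x).B = -x.B := rfl
theorem smul_B : (c • x).B = c • x.B := rfl
theorem zero_be : (0 : Fts k).be = 0 := rfl
theorem add_be : (x + y).be = x.be + y.be := rfl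
theorem sub_be : (x - y).be = x.be - y.be := rfl
theorem neg_be : (-x).be = -x.be := rfl
theorem smul_be : (c • x).be = c * x.be := rfl

/-- unfold the coordinates -/
macro "fts_simp" l:(Lean.Parser.Tactic.location)? : tactic => `(tactic| simp only [Fts.zero_al, Fts.add_al, Fts.sub_al, Fts.neg_al, Fts.smul_al, Fts.zero_A, Fts.add_A, Fts.sub_A, Fts.neg_A, Fts.smul_A, Fts.zero_B, Fts.add_B, Fts.sub_B, Fts.neg_B, Fts.smul_B, Fts.zero_be, Fts.add_be, Fts.sub_be, Fts.neg_be, Fts.smul_be] $[$l]?)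

instance : AddCommGroup (Fts k) where
  add_assoc x y z := by apply Fts.ext <;> fts_simp <;> exact add_assoc _ _ _
  zero_add x := by apply Fts.ext <;> fts_simp <;> exact zero_add _
  add_zero x := by apply Fts.ext <;> fts_simp <;> exact add_zero _
  nsmul := nsmulRec
  neg_add_cancel x := by apply Fts.ext <;> fts_simp <;> exact neg_add_cancel _
  add_comm x y := by apply Fts.ext <;> fts_simp <;> exact add_comm _ _
  sub_eq_add_neg x y := by apply Fts.ext <;> fts_simp <;> exact sub_eq_add_neg _ _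
  zsmul := zsmulRec

instance : Module k (Fts k) where
  one_smul x := by apply Fts.ext <;> fts_simp <;> exact one_smul k _
  mul_smul c d x := by apply Fts.ext <;> fts_simp <;> exact mul_smul c d _
  smul_zero c := by apply Fts.ext <;> fts_simp <;> exact smul_zero c
  smul_add c x y := by apply Fts.ext <;> fts_simp <;> exact smul_add c _ _
  add_smul c d x := by apply Fts.ext <;> fts_simp <;> exact add_smul c d _
  zero_smul x := by apply Fts.ext <;> fts_simp <;> exact zero_smul k _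

/-- the symplectic form -/
def om (x y : Fts k) : k := x.al * y.be - y.al * x.be - Alb.T x.A y.B + Alb.T y.A x.B

/-- the quartic form -/
def q (x : Fts k) : k := (x.al * x.be - Alb.T x.A x.B) ^ 2 + 4 * x.al * Alb.N x.B + 4 * x.be * Alb.N x.A -
  4 * Alb.T (Alb.sh x.A) (Alb.sh x.B)

/-- the polar form of `al be - T(A,B)` -/
def P (x y : Fts k) : k := x.al * y.be + y.al * x.be - Alb.T x.A y.B - Alb.T y.A x.B

/-- the full polarisation of the quartic form, `f x x x x = 24 q x` -/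
def f (x y z w : Fts k) : k :=
  2 * (P x y * P z w + P x z * P y w + P x w * P y z) +
  4 * (x.al * Alb.T (Alb.cr y.B z.B) w.B + y.al * Alb.T (Alb.cr x.B z.B) w.B + z.al * Alb.T (Alb.cr x.B y.B) w.B +
    w.al * Alb.T (Alb.cr x.B y.B) z.B) +
  4 * (x.be * Alb.T (Alb.cr y.A z.A) w.A + y.be * Alb.T (Alb.cr x.A z.A) w.A + z.be * Alb.T (Alb.cr x.A y.A) w.A +
    w.be * Alb.T (Alb.cr x.A y.A) z.A) -
  4 * (Alb.T (Alb.cr x.A y.A) (Alb.cr z.B w.B) + Alb.T (Alb.cr x.A z.A) (Alb.cr y.B w.B) +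
    Alb.T (Alb.cr x.A w.A) (Alb.cr y.B z.B) + Alb.T (Alb.cr y.A z.A) (Alb.cr x.B w.B) +
    Alb.T (Alb.cr y.A w.A) (Alb.cr x.B z.B) + Alb.T (Alb.cr z.A w.A) (Alb.cr x.B y.B))

end CR
end Fts

end Cfsg.Agent.R2.PX
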