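import Mathlib
import Cfsg.Agent.R2.PX.Fts

/-!
# Pattern X (S5771): similitudes of the 56-dimensional module (helper5)
-/

set_option autoImplicit false

namespace Cfsg.Agent.R2.PX

universe u

namespace Oct

section CR
variable {k : Type u} [CommRing k]

/-- coordinates -/
def equiv : Oct k ≃ₗ[k] (Fin 8 → k) where
  toFun x := ![x.a, x.b, x.u1, x.u2, x.u3, x.v1, x.v2, x.v3]
  invFun c := ⟨c 0, c 1, c 2, c 3, c 4, c 5, c 6, c 7⟩
  map_add' x y := by
    funext i
    fin_cases i <;> rfl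
  map_smul' c x := by
    funext i
    fin_cases i <;> rfl
  left_inv x := rfl
  right_inv c := by
    funext i
    fin_cases i <;> rfl

end CR

section F
variable {k : Type u} [Field k]

instance : Module.Finite k (Oct k) := Module.Finite.equiv (equiv (k := k)).symm

theorem finrank_Oct : Module.finrank k (Oct k) = 8 := by
  rw [LinearEquiv.finrank_eq (equiv (k := k)), Module.finrank_fin_fun]

/-- `bl` is preserved up to scalars if `N` is -/
theorem bl_of_N {s : Oct k →ₗ[k] Oct k} {n : k} (h : ∀ x, N (s x) = n * N x) (x y : Oct k) :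
    bl (s x) (s y) = n * bl x y := by
  have h1 := h (x + y)
  rw [map_add, N_add, N_add, h, h] at h1
  linear_combination h1

theorem inj_of_N {s : Oct k →ₗ[k] Oct k} {n : k} (hn : n ≠ 0) (h : ∀ x, N (s x) = n * N x) : Function.Injective s := by
  rw [injective_iff_map_eq_zero]
  intro x hx
  apply eq_zero_of_bl
  intro y
  have h1 := bl_of_N h x y
  rw [hx, bl_zero_left] at h1
  exact (mul_eq_zero.1 h1.symm).resolve_left hn

theorem surj_of_N {s : Oct k →ₗ[k] Oct k} {n : k} (hn : n ≠ 0) (h : ∀ x, N (s x) = n * N x) : Function.Surjective s :=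
  LinearMap.injective_iff_surjective.1 (inj_of_N hn h)

end F
end Oct

/-- related triples -/
structure Tri {k : Type u} [Field k] (n1 n2 n3 t : k) (s1 s2 s3 : Oct k →ₗ[k] Oct k) : Prop where
  N1 : ∀ x, Oct.N (s1 x) = n1 * Oct.N x
  N2 : ∀ x, Oct.N (s2 x) = n2 * Oct.N x
  N3 : ∀ x, Oct.N (s3 x) = n3 * Oct.N x
  t3 : ∀ x y z, Oct.tr3 (s1 x) (s2 y) (s3 z) = t * Oct.tr3 x y z

namespace Tri
variable {k : Type u} [Field k] {n1 n2 n3 t : k} {s1 s2 s3 : Oct k →ₗ[k] Oct k}

theorem rot (h : Tri n1 n2 n3 t s1 s2 s3) : Tri n2 n3 n1 t s2 s3 s1 where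
  N1 := h.N2
  N2 := h.N3
  N3 := h.N1
  t3 x y z := by rw [← Oct.tr3_cycle, h.t3, Oct.tr3_cycle]

theorem comp {m1 m2 m3 r : k} {p1 p2 p3 : Oct k →ₗ[k] Oct k} (h : Tri n1 n2 n3 t s1 s2 s3) (h' : Tri m1 m2 m3 r p1 p2 p3) :
    Tri (n1 * m1) (n2 * m2) (n3 * m3) (t * r) (s1.comp p1) (s2.comp p2) (s3.comp p3) where
  N1 x := by rw [LinearMap.comp_apply, h.N1, h'.N1, mul_assoc]
  N2 x := by rw [LinearMap.comp_apply, h.N2, h'.N2, mul_assoc]
  N3 x := by rw [LinearMap.comp_apply, h.N3, h'.N3, mul_assoc]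
  t3 x y z := by rw [LinearMap.comp_apply, LinearMap.comp_apply, LinearMap.comp_apply, h.t3, h'.t3, mul_assoc]

theorem congr {m1 m2 m3 r : k} (h : Tri n1 n2 n3 t s1 s2 s3) (e1 : n1 = m1) (e2 : n2 = m2) (e3 : n3 = m3) (e : t = r) :
    Tri m1 m2 m3 r s1 s2 s3 := by
  subst e1 e2 e3 e
  exact h

theorem ids : Tri (1 : k) 1 1 1 LinearMap.id LinearMap.id LinearMap.id where
  N1 x := by rw [LinearMap.id_apply, one_mul]
  N2 x := by rw [LinearMap.id_apply, one_mul]
  N3 x := by rw [LinearMap.id_apply, one_mul]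
  t3 x y z := by rw [LinearMap.id_apply, LinearMap.id_apply, LinearMap.id_apply, one_mul]

theorem cj_mul (h : Tri n1 n2 n3 t s1 s2 s3) (h1 : n1 ≠ 0) (y z : Oct k) :
    Oct.cj (s2 y * s3 z) = (t / n1) • s1 (Oct.cj (y * z)) := by
  apply Oct.eq_of_bl
  intro w
  obtain ⟨x, rfl⟩ := Oct.surj_of_N h1 h.N1 w
  rw [Oct.bl_comm, ← Oct.tr3_eq, h.t3, Oct.bl_smul_left, Oct.bl_of_N h.N1, Oct.tr3_eq, Oct.bl_comm]
  field_simp

end Tri

/-- the elements of the 56-dimensional module -/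
structure OSim {k : Type u} [Field k] (m : k) (g : Fts k →ₗ[k] Fts k) : Prop where
  f : ∀ x y z w, Fts.f (g x) (g y) (g z) (g w) = m ^ 2 * Fts.f x y z w
  om : ∀ x y, Fts.om (g x) (g y) = m * Fts.om x y

namespace Fts
section CR
variable {k : Type u} [CommRing k]

/-- coordinates -/
def equiv : Fts k ≃ₗ[k] (Fin 8 → k) × (Fin 6 → Oct k) where
  toFun x := (![x.al, x.A.l1, x.A.l2, x.A.l3, x.B.l1, x.B.l2, x.B.l3, x.be], ![x.A.a1, x.A.a2, x.A.a3, x.B.a1, x.B.a2, x.B.a3])
  invFun c := ⟨c.1 0, ⟨c.1 1, c.1 2, c.1 3, c.2 0, c.2 1, c.2 2⟩, ⟨c.1 4, c.1 5, c.1 6, c.2 3, c.2 4, c.2 5⟩, c.1 7⟩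
  map_add' x y := by
    refine Prod.ext ?_ ?_ <;> funext i <;> fin_cases i <;> rfl
  map_smul' c x := by
    refine Prod.ext ?_ ?_ <;> funext i <;> fin_cases i <;> rfl
  left_inv x := rfl
  right_inv c := by
    refine Prod.ext ?_ ?_ <;> funext i <;> fin_cases i <;> rfl

end CR
section F
variable {k : Type u} [Field k]

instance : Module.Finite k (Fts k) := Module.Finite.equiv (equiv (k := k)).symm

theorem finrank_Fts : Module.finrank k (Fts k) = 56 := by
  rw [LinearEquiv.finrank_eq (equiv (k := k)), Module.finrank_prod, Module.finrank_fin_fun, Module.finrank_pi_fintype,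
    Finset.sum_const, Oct.finrank_Oct]
  rfl

theorem om_nondeg {x : Fts k} (h : ∀ y, om x y = 0) : x = 0 := by
  have h1 := h ⟨1, 0, 0, 0⟩
  have h2 := h ⟨0, 0, 0, 1⟩
  have hA : ∀ B, Alb.T x.A B = 0 := by
    intro B
    have := h ⟨0, 0, B, 0⟩
    simp only [om, mul_zero, zero_mul, sub_zero, zero_sub, Alb.T_zero_left, add_zero, neg_eq_zero] at this
    exact this
  have hB : ∀ A, Alb.T A x.B = 0 := by
    intro A
    have := h ⟨0, A, 0, 0⟩
    simp only [om, mul_zero, zero_mul, sub_zero, zero_sub, Alb.T_zero_right, zero_add, neg_zero] at this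
    exact this
  simp only [om, mul_zero, one_mul, zero_sub, Alb.T_zero_left, Alb.T_zero_right, sub_zero, add_zero, neg_zero, neg_eq_zero,
    zero_mul, mul_one] at h1 h2
  have key : ∀ X : Alb k, (∀ Y, Alb.T X Y = 0) → X = 0 := by
    intro X hX
    have a1 := hX ⟨1, 0, 0, 0, 0, 0⟩
    have a2 := hX ⟨0, 1, 0, 0, 0, 0⟩
    have a3 := hX ⟨0, 0, 1, 0, 0, 0⟩
    simp only [Alb.T, mul_zero, mul_one, add_zero, zero_add, Oct.bl_zero_right] at a1 a2 a3
    have b1 : X.a1 = 0 := Oct.eq_zero_of_bl fun y => by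
      have := hX ⟨0, 0, 0, y, 0, 0⟩
      simpa only [Alb.T, mul_zero, mul_one, add_zero, zero_add, Oct.bl_zero_right] using this
    have b2 : X.a2 = 0 := Oct.eq_zero_of_bl fun y => by
      have := hX ⟨0, 0, 0, 0, y, 0⟩
      simpa only [Alb.T, mul_zero, mul_one, add_zero, zero_add, Oct.bl_zero_right] using this
    have b3 : X.a3 = 0 := Oct.eq_zero_of_bl fun y => by
      have := hX ⟨0, 0, 0, 0, 0, y⟩
      simpa only [Alb.T, mul_zero, mul_one, add_zero, zero_add, Oct.bl_zero_right] using this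
    exact Alb.ext a1 a2 a3 b1 b2 b3
  exact Fts.ext h2 (key _ hA) (key _ fun A => by rw [Alb.T_comm]; exact hB A) h1

end F
end Fts

namespace OSim
variable {k : Type u} [Field k] {m : k} {g : Fts k →ₗ[k] Fts k}

theorem comp {n : k} {h : Fts k →ₗ[k] Fts k} (hg : OSim m g) (hh : OSim n h) : OSim (m * n) (g.comp h) where
  f x y z w := by rw [LinearMap.comp_apply, LinearMap.comp_apply, LinearMap.comp_apply, LinearMap.comp_apply, hg.f, hh.f]; ring
  om x y := by rw [LinearMap.comp_apply, LinearMap.comp_apply, hg.om, hh.om]; ring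

theorem inj (hg : OSim m g) (hm : m ≠ 0) : Function.Injective g := by
  rw [injective_iff_map_eq_zero]
  intro x hx
  apply Fts.om_nondeg
  intro y
  have h1 := hg.om x y
  have h2 : Fts.om 0 (g y) = 0 := by
    show (0 : Fts k).al * _ - _ * (0 : Fts k).be - Alb.T (0 : Fts k).A _ + Alb.T _ (0 : Fts k).B = 0
    fts_simp
    rw [Alb.T_zero_left, Alb.T_zero_right]
    ring
  rw [hx, h2] at h1
  exact (mul_eq_zero.1 h1.symm).resolve_left hm

/-- a similitude is invertible -/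
noncomputable def eqv (hg : OSim m g) (hm : m ≠ 0) : Fts k ≃ₗ[k] Fts k := LinearEquiv.ofInjectiveEndo g (hg.inj hm)

theorem eqv_apply (hg : OSim m g) (hm : m ≠ 0) (x : Fts k) : hg.eqv hm x = g x := rfl

theorem symm (hg : OSim m g) (hm : m ≠ 0) : OSim m⁻¹ ((hg.eqv hm).symm : Fts k →ₗ[k] Fts k) where
  f x y z w := by
    have h1 := hg.f ((hg.eqv hm).symm x) ((hg.eqv hm).symm y) ((hg.eqv hm).symm z) ((hg.eqv hm).symm w)
    rw [← eqv_apply hg hm, ← eqv_apply hg hm, ← eqv_apply hg hm, ← eqv_apply hg hm, LinearEquiv.apply_symm_apply,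
      LinearEquiv.apply_symm_apply, LinearEquiv.apply_symm_apply, LinearEquiv.apply_symm_apply] at h1
    show Fts.f ((hg.eqv hm).symm x) ((hg.eqv hm).symm y) ((hg.eqv hm).symm z) ((hg.eqv hm).symm w) = _
    rw [h1]
    field_simp
  om x y := by
    have h1 := hg.om ((hg.eqv hm).symm x) ((hg.eqv hm).symm y)
    rw [← eqv_apply hg hm, ← eqv_apply hg hm, LinearEquiv.apply_symm_apply, LinearEquiv.apply_symm_apply] at h1
    show Fts.om ((hg.eqv hm).symm x) ((hg.eqv hm).symm y) = _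
    rw [h1]
    field_simp

end OSim

end Cfsg.Agent.R2.PX
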