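import Mathlib
import Cfsg.Agent.R2.PX.Sim

/-!
# Pattern X (S5771): the similitudes given by related triples (helper5)
-/

set_option autoImplicit false

namespace Cfsg.Agent.R2.PX

universe u

namespace SM
variable {k : Type u} [Field k] (c0 m d1 d2 d3 : k) (s1 s2 s3 : Oct k →ₗ[k] Oct k)

/-- on the second copy -/
def ph (X : Alb k) : Alb k := ⟨d1 * X.l1, d2 * X.l2, d3 * X.l3, s1 X.a1, s2 X.a2, s3 X.a3⟩
/-- on the first copy -/
def ph' (X : Alb k) : Alb k := ⟨m / d1 * X.l1, m / d2 * X.l2, m / d3 * X.l3, (m / (d2 * d3)) • s1 X.a1,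
  (m / (d3 * d1)) • s2 X.a2, (m / (d1 * d2)) • s3 X.a3⟩
/-- the adjoint of `ph` -/
def ps (X : Alb k) : Alb k := ⟨(d2 * d3) * X.l1, (d3 * d1) * X.l2, (d1 * d2) * X.l3, d1 • s1 X.a1, d2 • s2 X.a2,
  d3 • s3 X.a3⟩
/-- the adjoint of `ph'` -/
def ps' (X : Alb k) : Alb k := ⟨m ^ 2 / (d2 * d3) * X.l1, m ^ 2 / (d3 * d1) * X.l2, m ^ 2 / (d1 * d2) * X.l3,
  (m ^ 2 / (d1 * d2 * d3)) • s1 X.a1, (m ^ 2 / (d1 * d2 * d3)) • s2 X.a2, (m ^ 2 / (d1 * d2 * d3)) • s3 X.a3⟩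

/-- the similitude -/
def mp : Fts k →ₗ[k] Fts k where
  toFun x := ⟨c0 * x.al, ph' m d1 d2 d3 s1 s2 s3 x.A, ph d1 d2 d3 s1 s2 s3 x.B, m / c0 * x.be⟩
  map_add' x y := by
    apply Fts.ext
    · fts_simp; ring
    · apply Alb.ext <;> simp only [ph'] <;> fts_simp <;> alb_simp <;> (try simp only [map_add, smul_add]) <;> ring
    · apply Alb.ext <;> simp only [ph] <;> fts_simp <;> alb_simp <;> (try simp only [map_add]) <;> ring
    · fts_simp; ring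
  map_smul' c x := by
    apply Fts.ext
    · fts_simp; simp only [RingHom.id_apply]; ring
    · apply Alb.ext <;> simp only [ph'] <;> fts_simp <;> alb_simp <;> simp only [map_smul, RingHom.id_apply, smul_comm _ c] <;> ring
    · apply Alb.ext <;> simp only [ph] <;> fts_simp <;> alb_simp <;> simp only [map_smul, RingHom.id_apply] <;> ring
    · fts_simp; simp only [RingHom.id_apply]; ring

variable {c0 m d1 d2 d3 s1 s2 s3}

theorem mp_apply (x : Fts k) : mp c0 m d1 d2 d3 s1 s2 s3 x =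
    ⟨c0 * x.al, ph' m d1 d2 d3 s1 s2 s3 x.A, ph d1 d2 d3 s1 s2 s3 x.B, m / c0 * x.be⟩ := rfl

variable (h : Tri (d2 * d3) (d3 * d1) (d1 * d2) (d1 * d2 * d3) s1 s2 s3) (h1 : d1 ≠ 0) (h2 : d2 ≠ 0) (h3 : d3 ≠ 0)
include h h1 h2 h3

theorem T_ph' (X Y : Alb k) : Alb.T (ph' m d1 d2 d3 s1 s2 s3 X) (ph d1 d2 d3 s1 s2 s3 Y) = m * Alb.T X Y := by
  unfold Alb.T ph ph'
  dsimp only
  rw [Oct.bl_smul_left, Oct.bl_smul_left, Oct.bl_smul_left, Oct.bl_of_N h.N1, Oct.bl_of_N h.N2, Oct.bl_of_N h.N3]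
  field_simp

theorem cjm1 (y z : Oct k) : Oct.cj (s2 y * s3 z) = d1 • s1 (Oct.cj (y * z)) := by
  rw [h.cj_mul (mul_ne_zero h2 h3)]
  congr 1
  field_simp
theorem cjm2 (y z : Oct k) : Oct.cj (s3 y * s1 z) = d2 • s2 (Oct.cj (y * z)) := by
  rw [h.rot.cj_mul (mul_ne_zero h3 h1)]
  congr 1
  field_simp
theorem cjm3 (y z : Oct k) : Oct.cj (s1 y * s2 z) = d3 • s3 (Oct.cj (y * z)) := by
  rw [h.rot.rot.cj_mul (mul_ne_zero h1 h2)]
  congr 1
  field_simp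

theorem cr_ph (X Y : Alb k) : Alb.cr (ph d1 d2 d3 s1 s2 s3 X) (ph d1 d2 d3 s1 s2 s3 Y) = ps d1 d2 d3 s1 s2 s3 (Alb.cr X Y) := by
  apply Alb.ext <;> unfold ph ps Alb.cr <;> dsimp only
  · rw [Oct.bl_of_N h.N1]; ring
  · rw [Oct.bl_of_N h.N2]; ring
  · rw [Oct.bl_of_N h.N3]; ring
  · rw [cjm1 h h1 h2 h3, cjm1 h h1 h2 h3, map_sub, map_sub, map_add, map_smul, map_smul]
    module
  · rw [cjm2 h h1 h2 h3, cjm2 h h1 h2 h3, map_sub, map_sub, map_add, map_smul, map_smul]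
    module
  · rw [cjm3 h h1 h2 h3, cjm3 h h1 h2 h3, map_sub, map_sub, map_add, map_smul, map_smul]
    module

theorem cr_ph' (X Y : Alb k) : Alb.cr (ph' m d1 d2 d3 s1 s2 s3 X) (ph' m d1 d2 d3 s1 s2 s3 Y) =
    ps' m d1 d2 d3 s1 s2 s3 (Alb.cr X Y) := by
  apply Alb.ext <;> unfold ph' ps' Alb.cr <;> dsimp only
  · rw [Oct.bl_smul_left, Oct.bl_smul_right, Oct.bl_of_N h.N1]; field_simp
  · rw [Oct.bl_smul_left, Oct.bl_smul_right, Oct.bl_of_N h.N2]; field_simp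
  · rw [Oct.bl_smul_left, Oct.bl_smul_right, Oct.bl_of_N h.N3]; field_simp
  · simp only [smul_mul_assoc, mul_smul_comm, Oct.cj_smul]
    rw [cjm1 h h1 h2 h3, cjm1 h h1 h2 h3, map_sub, map_sub, map_add, map_smul, map_smul]
    match_scalars <;> field_simp
  · simp only [smul_mul_assoc, mul_smul_comm, Oct.cj_smul]
    rw [cjm2 h h1 h2 h3, cjm2 h h1 h2 h3, map_sub, map_sub, map_add, map_smul, map_smul]
    match_scalars <;> field_simp
  · simp only [smul_mul_assoc, mul_smul_comm, Oct.cj_smul]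
    rw [cjm3 h h1 h2 h3, cjm3 h h1 h2 h3, map_sub, map_sub, map_add, map_smul, map_smul]
    match_scalars <;> field_simp

omit h1 h2 h3 in
theorem T_ps_ph (X Y : Alb k) : Alb.T (ps d1 d2 d3 s1 s2 s3 X) (ph d1 d2 d3 s1 s2 s3 Y) = d1 * d2 * d3 * Alb.T X Y := by
  unfold Alb.T ph ps
  dsimp only
  rw [Oct.bl_smul_left, Oct.bl_smul_left, Oct.bl_smul_left, Oct.bl_of_N h.N1, Oct.bl_of_N h.N2, Oct.bl_of_N h.N3]
  ring

theorem T_ps'_ph' (X Y : Alb k) : Alb.T (ps' m d1 d2 d3 s1 s2 s3 X) (ph' m d1 d2 d3 s1 s2 s3 Y) =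
    m ^ 3 / (d1 * d2 * d3) * Alb.T X Y := by
  unfold Alb.T ph' ps'
  dsimp only
  rw [Oct.bl_smul_left, Oct.bl_smul_left, Oct.bl_smul_left, Oct.bl_smul_right, Oct.bl_smul_right, Oct.bl_smul_right,
    Oct.bl_of_N h.N1, Oct.bl_of_N h.N2, Oct.bl_of_N h.N3]
  field_simp

theorem T_ps'_ps (X Y : Alb k) : Alb.T (ps' m d1 d2 d3 s1 s2 s3 X) (ps d1 d2 d3 s1 s2 s3 Y) = m ^ 2 * Alb.T X Y := by
  unfold Alb.T ps ps'
  dsimp only
  rw [Oct.bl_smul_left, Oct.bl_smul_left, Oct.bl_smul_left, Oct.bl_smul_right, Oct.bl_smul_right, Oct.bl_smul_right,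
    Oct.bl_of_N h.N1, Oct.bl_of_N h.N2, Oct.bl_of_N h.N3]
  field_simp

theorem isSim (h0 : c0 ≠ 0) (hm : m ^ 2 = c0 * (d1 * d2 * d3)) : OSim m (mp c0 m d1 d2 d3 s1 s2 s3) where
  om x y := by
    rw [mp_apply, mp_apply]
    unfold Fts.om
    dsimp only
    rw [T_ph' h h1 h2 h3, T_ph' h h1 h2 h3]
    field_simp
  f x y z w := by
    rw [mp_apply, mp_apply, mp_apply, mp_apply]
    unfold Fts.f Fts.P
    dsimp only
    simp only [T_ph' h h1 h2 h3, cr_ph h h1 h2 h3, cr_ph' h h1 h2 h3, T_ps_ph h, T_ps'_ph' h h1 h2 h3,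
      T_ps'_ps h h1 h2 h3]
    have e1 : ∀ a b : k, c0 * a * (d1 * d2 * d3 * b) = m ^ 2 * (a * b) := by
      intro a b
      rw [hm]
      ring
    have e2 : ∀ a b : k, m / c0 * a * (m ^ 3 / (d1 * d2 * d3) * b) = m ^ 2 * (a * b) := by
      intro a b
      have : m / c0 * a * (m ^ 3 / (d1 * d2 * d3) * b) = (m ^ 2) ^ 2 / (c0 * (d1 * d2 * d3)) * (a * b) := by
        field_simp
      rw [this, ← hm]
      have hm0 : m ^ 2 ≠ 0 := by
        rw [hm]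
        exact mul_ne_zero h0 (mul_ne_zero (mul_ne_zero h1 h2) h3)
      field_simp
    have e3 : ∀ a b c d : k, c0 * a * (m / c0 * b) + c0 * c * (m / c0 * d) = m * (a * b + c * d) := by
      intro a b c d
      field_simp
    simp only [e1, e2, e3]
    ring

end SM

end Cfsg.Agent.R2.PX
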