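import Mathlib
import Cfsg.Agent.R2.PX.SimMap

/-!
# Pattern X (S5771): related triples from the Moufang identities (helper5)
-/

set_option autoImplicit false

namespace Cfsg.Agent.R2.PX

universe u

namespace Mou
variable {k : Type u} [Field k]

/-- left multiplication -/
def Lm (c : Oct k) : Oct k →ₗ[k] Oct k where
  toFun x := c * x
  map_add' x y := mul_add c x y
  map_smul' a x := mul_smul_comm a c x

/-- right multiplication -/
def Rm (c : Oct k) : Oct k →ₗ[k] Oct k where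
  toFun x := x * c
  map_add' x y := add_mul x y c
  map_smul' a x := smul_mul_assoc a x c

/-- the third component -/
def Um (c : Oct k) : Oct k →ₗ[k] Oct k where
  toFun x := (1 / Oct.N c) • ((Oct.cj c * x) * Oct.cj c)
  map_add' x y := by rw [mul_add, add_mul, smul_add]
  map_smul' a x := by
    rw [mul_smul_comm, smul_mul_assoc, smul_comm]
    rfl

theorem Lm_apply (c x : Oct k) : Lm c x = c * x := rfl
theorem Rm_apply (c x : Oct k) : Rm c x = x * c := rfl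
theorem Um_apply (c x : Oct k) : Um c x = (1 / Oct.N c) • ((Oct.cj c * x) * Oct.cj c) := rfl

theorem tri (c : Oct k) (hc : Oct.N c ≠ 0) : Tri (Oct.N c) (Oct.N c) 1 (Oct.N c) (Lm c) (Rm c) (Um c) where
  N1 x := by rw [Lm_apply, Oct.N_mul]
  N2 x := by rw [Rm_apply, Oct.N_mul, mul_comm]
  N3 x := by
    rw [Um_apply, Oct.N_smul, Oct.N_mul, Oct.N_mul, Oct.N_cj]
    field_simp
  t3 x y z := by
    unfold Oct.tr3
    rw [Lm_apply, Rm_apply, Um_apply, Oct.moufang, mul_smul_comm, Oct.tr_smul, Oct.tr_assoc, Oct.flex, Oct.mul_cj_mul,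
      mul_smul_comm, Oct.tr_smul, Oct.tr_mul_comm, Oct.tr_assoc, Oct.cj_mul_mul, mul_smul_comm, Oct.tr_smul, Oct.tr_mul_comm]
    field_simp

/-- an element of given norm -/
def dg (d : k) : Oct k := ⟨d, 1, 0, 0, 0, 0, 0, 0⟩

theorem N_dg (d : k) : Oct.N (dg d) = d := by
  unfold Oct.N dg
  ring

/-- triples with given multipliers -/
theorem exists_tri {d1 d2 d3 : k} (h1 : d1 ≠ 0) (h2 : d2 ≠ 0) (h3 : d3 ≠ 0) : ∃ s1 s2 s3 : Oct k →ₗ[k] Oct k,
    Tri (d2 * d3) (d3 * d1) (d1 * d2) (d1 * d2 * d3) s1 s2 s3 := by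
  have t1 := tri (dg d1) (by rw [N_dg]; exact h1)
  have t2 := tri (dg d2) (by rw [N_dg]; exact h2)
  have t3 := tri (dg d3) (by rw [N_dg]; exact h3)
  rw [N_dg] at t1 t2 t3
  exact ⟨_, _, _, ((t3.comp t1.rot.rot).comp t2.rot).congr (by ring) (by ring) (by ring) (by ring)⟩

/-- a traceless element of norm 1 orthogonal to the conjugate of a given one -/
theorem exists_i (b : Oct k) : ∃ i : Oct k, Oct.tr i = 0 ∧ Oct.N i = 1 ∧ Oct.tr (i * b) = 0 := by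
  by_cases h1 : b.u1 = 0
  · by_cases h2 : b.u2 = 0
    · by_cases h3 : b.u3 = 0
      · by_cases g1 : b.v1 = 0
        · refine ⟨⟨0, 0, 1, 0, 0, -1, 0, 0⟩, by oct_simp; ring, by oct_simp; ring, ?_⟩
          oct_simp
          rw [h1, g1]; ring
        · refine ⟨⟨0, 0, b.v2 / b.v1, -1, 0, 0, 1, 0⟩, by oct_simp; ring, by oct_simp; ring, ?_⟩
          oct_simp
          rw [h2]; field_simp; ring
      · refine ⟨⟨0, 0, 1, 0, 0, -1, 0, (b.u1 - b.v1) / b.u3⟩, by oct_simp; ring, by oct_simp; ring, ?_⟩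
        oct_simp
        field_simp; ring
    · refine ⟨⟨0, 0, 1, 0, 0, -1, (b.u1 - b.v1) / b.u2, 0⟩, by oct_simp; ring, by oct_simp; ring, ?_⟩
      oct_simp
      field_simp; ring
  · refine ⟨⟨0, 0, 0, 1, 0, (b.u2 - b.v2) / b.u1, -1, 0⟩, by oct_simp; ring, by oct_simp; ring, ?_⟩
    oct_simp
    field_simp; ring

theorem sq_of_tr {i : Oct k} (ht : Oct.tr i = 0) (hn : Oct.N i = 1) : i * i = -1 := by
  have h1 := Oct.mul_cj i
  rw [Oct.cj_eq, ht, zero_smul, zero_sub, mul_neg, hn, one_smul] at h1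
  rw [← h1, neg_neg]

theorem cj_of_tr {i : Oct k} (ht : Oct.tr i = 0) : Oct.cj i = -i := by
  rw [Oct.cj_eq, ht, zero_smul, zero_sub]

/-- the triple `(i y i, -i y, -y i)` -/
theorem exists_tri_i {i : Oct k} (ht : Oct.tr i = 0) (hn : Oct.N i = 1) : ∃ s1 s2 s3 : Oct k →ₗ[k] Oct k,
    Tri 1 1 1 1 s1 s2 s3 ∧ (∀ y, s1 y = i * (y * i)) ∧ (∀ y, s2 y = -(i * y)) := by
  have t := tri i (by rw [hn]; exact one_ne_zero)
  rw [hn] at t
  refine ⟨_, _, _, (t.comp t.rot).congr (by ring) (by ring) (by ring) (by ring), fun y => rfl, fun y => ?_⟩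
  rw [LinearMap.comp_apply, Rm_apply, Um_apply, hn, div_one, one_smul, cj_of_tr ht]
  have h1 := Oct.mul_mul_cj i (i * y)
  rw [cj_of_tr ht, mul_neg, hn, one_smul] at h1
  simp only [neg_mul, mul_neg, neg_neg]
  exact neg_eq_iff_eq_neg.1 h1

theorem one_of_two {b1 b2 b3 : Oct k} {s1 s2 s3 : Oct k →ₗ[k] Oct k} (t : Tri 1 1 1 1 s1 s2 s3) (h3 : Oct.cj (b1 * b2) = b3)
    (e1 : s1 b1 = 1) (e2 : s2 b2 = 1) : s3 b3 = 1 := by
  have h := t.rot.rot.cj_mul one_ne_zero b1 b2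
  rw [e1, e2, mul_one, Oct.cj_one, div_one, one_smul, h3] at h
  exact h.symm

/-- transitivity -/
theorem exists_tri_one {b1 b2 b3 : Oct k} (n1 : Oct.N b1 = 1) (n2 : Oct.N b2 = 1) (h3 : Oct.cj (b1 * b2) = b3) :
    ∃ s1 s2 s3 : Oct k →ₗ[k] Oct k, Tri 1 1 1 1 s1 s2 s3 ∧ s1 b1 = 1 ∧ s2 b2 = 1 ∧ s3 b3 = 1 := by
  have nc : Oct.N (Oct.cj b1) = 1 := by rw [Oct.N_cj, n1]
  have t := tri (Oct.cj b1) (by rw [nc]; exact one_ne_zero)
  rw [nc] at t
  have a1 : Lm (Oct.cj b1) b1 = 1 := by rw [Lm_apply, Oct.cj_mul_self, n1, one_smul]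
  have a2 : Rm (Oct.cj b1) b2 = b2 * Oct.cj b1 := rfl
  have hN : Oct.N (b2 * Oct.cj b1) = 1 := by rw [Oct.N_mul, nc, n2, one_mul]
  obtain ⟨i, hi1, hi2, hi3⟩ := exists_i (b2 * Oct.cj b1)
  obtain ⟨p1, p2, p3, tp, hp1, hp2⟩ := exists_tri_i hi1 hi2
  have hj1 : Oct.tr (-(i * (b2 * Oct.cj b1))) = 0 := by rw [Oct.tr_neg, hi3, neg_zero]
  have hj2 : Oct.N (-(i * (b2 * Oct.cj b1))) = 1 := by rw [Oct.N_neg, Oct.N_mul, hi2, hN, one_mul]
  obtain ⟨q1, q2, q3, tq, hq1, hq2⟩ := exists_tri_i hj1 hj2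
  have T := ((tq.comp tp).comp t).congr (m1 := 1) (m2 := 1) (m3 := 1) (r := 1) (by ring) (by ring) (by ring) (by ring)
  have e1 : ((q1.comp p1).comp (Lm (Oct.cj b1))) b1 = 1 := by
    rw [LinearMap.comp_apply, LinearMap.comp_apply, a1, hp1, one_mul, sq_of_tr hi1 hi2, hq1, neg_one_mul, mul_neg,
      sq_of_tr hj1 hj2, neg_neg]
  have e2 : ((q2.comp p2).comp (Rm (Oct.cj b1))) b2 = 1 := by
    rw [LinearMap.comp_apply, LinearMap.comp_apply, a2, hp2, hq2, sq_of_tr hj1 hj2, neg_neg]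
  exact ⟨_, _, _, T, e1, e2, one_of_two T h3 e1 e2⟩

end Mou

end Cfsg.Agent.R2.PX
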