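import Mathlib
import Cfsg.Agent.R2.PX.Mou

/-!
# Pattern X (S5771): isometries fixing four basic vectors (helper5)
-/

set_option autoImplicit false

namespace Cfsg.Agent.R2.PX

universe u

namespace Blk

section CR
variable {k : Type u} [CommRing k]

/-- the top vector -/
def top : Fts k := ⟨1, 0, 0, 0⟩

/-- the diagonal vector -/
def E1 : Fts k := ⟨0, 0, ⟨1, 0, 0, 0, 0, 0⟩, 0⟩
/-- the diagonal vector -/
def E2 : Fts k := ⟨0, 0, ⟨0, 1, 0, 0, 0, 0⟩, 0⟩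
/-- the diagonal vector -/
def E3 : Fts k := ⟨0, 0, ⟨0, 0, 1, 0, 0, 0⟩, 0⟩

/-- evaluation of the zero vectors -/
macro "blk_simp" l:(Lean.Parser.Tactic.location)? : tactic => `(tactic| simp only [top, E1, E2, E3, Fts.f, Fts.P, Fts.om, Alb.T, Alb.cr,
  Alb.zero_l1, Alb.zero_l2, Alb.zero_l3, Alb.zero_a1, Alb.zero_a2, Alb.zero_a3, Oct.bl_zero_left, Oct.bl_zero_right,
  Oct.cj_zero, mul_zero, zero_mul, add_zero, zero_add, sub_zero, zero_sub, smul_zero, zero_smul, one_mul, mul_one, one_smul,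
  Oct.bl_neg_left, Oct.bl_neg_right, neg_zero, sub_self] $[$l]?)

theorem om_top (x : Fts k) : Fts.om top x = x.be := by blk_simp
theorem om_E1 (x : Fts k) : Fts.om E1 x = x.A.l1 := by blk_simp
theorem om_E2 (x : Fts k) : Fts.om E2 x = x.A.l2 := by blk_simp
theorem om_E3 (x : Fts k) : Fts.om E3 x = x.A.l3 := by blk_simp
theorem f_EEE (x : Fts k) : Fts.f E1 E2 E3 x = 4 * x.al := by blk_simp
theorem f_top_EE1 (x : Fts k) : Fts.f top E2 E3 x = 4 * x.B.l1 := by blk_simp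
theorem f_top_E1 (x y : Fts k) : Fts.f top E1 x y = -2 * (x.be * y.A.l1 + y.be * x.A.l1) +
    4 * (x.B.l2 * y.B.l3 + y.B.l2 * x.B.l3 - Oct.bl x.B.a1 y.B.a1) := by blk_simp; ring
theorem f_EE1 (x y : Fts k) : Fts.f E2 E3 x y = -2 * (x.A.l2 * y.A.l3 + y.A.l2 * x.A.l3) +
    4 * (x.al * y.B.l1 + y.al * x.B.l1) + 4 * Oct.bl x.A.a1 y.A.a1 := by blk_simp; ring
theorem f_top_EE2 (x : Fts k) : Fts.f top E3 E1 x = 4 * x.B.l2 := by blk_simp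
theorem f_top_E2 (x y : Fts k) : Fts.f top E2 x y = -2 * (x.be * y.A.l2 + y.be * x.A.l2) +
    4 * (x.B.l3 * y.B.l1 + y.B.l3 * x.B.l1 - Oct.bl x.B.a2 y.B.a2) := by blk_simp; ring
theorem f_EE2 (x y : Fts k) : Fts.f E3 E1 x y = -2 * (x.A.l3 * y.A.l1 + y.A.l3 * x.A.l1) +
    4 * (x.al * y.B.l2 + y.al * x.B.l2) + 4 * Oct.bl x.A.a2 y.A.a2 := by blk_simp; ring
theorem f_top_EE3 (x : Fts k) : Fts.f top E1 E2 x = 4 * x.B.l3 := by blk_simp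
theorem f_top_E3 (x y : Fts k) : Fts.f top E3 x y = -2 * (x.be * y.A.l3 + y.be * x.A.l3) +
    4 * (x.B.l1 * y.B.l2 + y.B.l1 * x.B.l2 - Oct.bl x.B.a3 y.B.a3) := by blk_simp; ring
theorem f_EE3 (x y : Fts k) : Fts.f E1 E2 x y = -2 * (x.A.l1 * y.A.l2 + y.A.l1 * x.A.l2) +
    4 * (x.al * y.B.l3 + y.al * x.B.l3) + 4 * Oct.bl x.A.a3 y.A.a3 := by blk_simp; ring

theorem f_top_octs (x y z : Oct k) : Fts.f top ⟨0, 0, ⟨0, 0, 0, x, 0, 0⟩, 0⟩ ⟨0, 0, ⟨0, 0, 0, 0, y, 0⟩, 0⟩ ⟨0, 0, ⟨0, 0, 0, 0, 0, z⟩, 0⟩ =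
    4 * Oct.tr3 x y z := by
  blk_simp
  rw [Oct.tr3_eq', ← Oct.bl_cj_cj (x * y), Oct.cj_cj]

end CR

section F
variable {k : Type u} [Field k]

/-- an isometry preserving the quadratic form of a slot acts on it -/
theorem slot (g : Fts k ≃ₗ[k] Fts k) (p : Fts k →ₗ[k] Oct k) (j : Oct k →ₗ[k] Fts k) (hj : ∀ a, p (j a) = a)
    (h : ∀ x y, Oct.bl (p (g x)) (p (g y)) = Oct.bl (p x) (p y)) :
    ∃ s : Oct k →ₗ[k] Oct k, (∀ x, p (g x) = s (p x)) ∧ ∀ x y, Oct.bl (s x) (s y) = Oct.bl x y := by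
  have h1 : ∀ x, p (g x) = p (g (j (p x))) := by
    intro x
    rw [← sub_eq_zero, ← map_sub, ← map_sub]
    apply Oct.eq_zero_of_bl
    intro y
    have h2 := h (x - j (p x)) (g.symm (j y))
    rw [LinearEquiv.apply_symm_apply, hj, map_sub p x, hj, sub_self, Oct.bl_zero_left] at h2
    exact h2
  refine ⟨p.comp ((g : Fts k →ₗ[k] Fts k).comp j), h1, fun x y => ?_⟩
  show Oct.bl (p (g (j x))) (p (g (j y))) = _
  rw [h, hj, hj]

/-- projection -/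
def pA1 : Fts k →ₗ[k] Oct k where
  toFun x := x.A.a1
  map_add' _ _ := rfl
  map_smul' _ _ := rfl
/-- injection -/
def jA1 : Oct k →ₗ[k] Fts k where
  toFun a := ⟨0, ⟨0, 0, 0, a, 0, 0⟩, 0, 0⟩
  map_add' x y := by
    apply Fts.ext <;> fts_simp <;> first | exact (add_zero _).symm | (apply Alb.ext <;> alb_simp <;> exact (add_zero _).symm)
  map_smul' c x := by
    apply Fts.ext <;> fts_simp <;> first | exact (mul_zero c).symm | (apply Alb.ext <;> alb_simp <;>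
      first | rfl | exact (mul_zero c).symm | exact (smul_zero c).symm)
/-- projection -/
def pA2 : Fts k →ₗ[k] Oct k where
  toFun x := x.A.a2
  map_add' _ _ := rfl
  map_smul' _ _ := rfl
/-- injection -/
def jA2 : Oct k →ₗ[k] Fts k where
  toFun a := ⟨0, ⟨0, 0, 0, 0, a, 0⟩, 0, 0⟩
  map_add' x y := by
    apply Fts.ext <;> fts_simp <;> first | exact (add_zero _).symm | (apply Alb.ext <;> alb_simp <;> exact (add_zero _).symm)
  map_smul' c x := by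
    apply Fts.ext <;> fts_simp <;> first | exact (mul_zero c).symm | (apply Alb.ext <;> alb_simp <;>
      first | rfl | exact (mul_zero c).symm | exact (smul_zero c).symm)
/-- projection -/
def pA3 : Fts k →ₗ[k] Oct k where
  toFun x := x.A.a3
  map_add' _ _ := rfl
  map_smul' _ _ := rfl
/-- injection -/
def jA3 : Oct k →ₗ[k] Fts k where
  toFun a := ⟨0, ⟨0, 0, 0, 0, 0, a⟩, 0, 0⟩
  map_add' x y := by
    apply Fts.ext <;> fts_simp <;> first | exact (add_zero _).symm | (apply Alb.ext <;> alb_simp <;> exact (add_zero _).symm)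
  map_smul' c x := by
    apply Fts.ext <;> fts_simp <;> first | exact (mul_zero c).symm | (apply Alb.ext <;> alb_simp <;>
      first | rfl | exact (mul_zero c).symm | exact (smul_zero c).symm)
/-- projection -/
def pB1 : Fts k →ₗ[k] Oct k where
  toFun x := x.B.a1
  map_add' _ _ := rfl
  map_smul' _ _ := rfl
/-- injection -/
def jB1 : Oct k →ₗ[k] Fts k where
  toFun a := ⟨0, 0, ⟨0, 0, 0, a, 0, 0⟩, 0⟩
  map_add' x y := by
    apply Fts.ext <;> fts_simp <;> first | exact (add_zero _).symm | (apply Alb.ext <;> alb_simp <;> exact (add_zero _).symm)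
  map_smul' c x := by
    apply Fts.ext <;> fts_simp <;> first | exact (mul_zero c).symm | (apply Alb.ext <;> alb_simp <;>
      first | rfl | exact (mul_zero c).symm | exact (smul_zero c).symm)
/-- projection -/
def pB2 : Fts k →ₗ[k] Oct k where
  toFun x := x.B.a2
  map_add' _ _ := rfl
  map_smul' _ _ := rfl
/-- injection -/
def jB2 : Oct k →ₗ[k] Fts k where
  toFun a := ⟨0, 0, ⟨0, 0, 0, 0, a, 0⟩, 0⟩
  map_add' x y := by
    apply Fts.ext <;> fts_simp <;> first | exact (add_zero _).symm | (apply Alb.ext <;> alb_simp <;> exact (add_zero _).symm)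
  map_smul' c x := by
    apply Fts.ext <;> fts_simp <;> first | exact (mul_zero c).symm | (apply Alb.ext <;> alb_simp <;>
      first | rfl | exact (mul_zero c).symm | exact (smul_zero c).symm)
/-- projection -/
def pB3 : Fts k →ₗ[k] Oct k where
  toFun x := x.B.a3
  map_add' _ _ := rfl
  map_smul' _ _ := rfl
/-- injection -/
def jB3 : Oct k →ₗ[k] Fts k where
  toFun a := ⟨0, 0, ⟨0, 0, 0, 0, 0, a⟩, 0⟩
  map_add' x y := by
    apply Fts.ext <;> fts_simp <;> first | exact (add_zero _).symm | (apply Alb.ext <;> alb_simp <;> exact (add_zero _).symm)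
  map_smul' c x := by
    apply Fts.ext <;> fts_simp <;> first | exact (mul_zero c).symm | (apply Alb.ext <;> alb_simp <;>
      first | rfl | exact (mul_zero c).symm | exact (smul_zero c).symm)

/-- the block diagonal map -/
def dgm (s1 s2 s3 : Oct k →ₗ[k] Oct k) (x : Fts k) : Fts k :=
  ⟨x.al, ⟨x.A.l1, x.A.l2, x.A.l3, s1 x.A.a1, s2 x.A.a2, s3 x.A.a3⟩, ⟨x.B.l1, x.B.l2, x.B.l3, s1 x.B.a1, s2 x.B.a2, s3 x.B.a3⟩, x.be⟩

/-- isometries -/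
structure IsIsom (g : Fts k ≃ₗ[k] Fts k) : Prop where
  f : ∀ x y z w, Fts.f (g x) (g y) (g z) (g w) = Fts.f x y z w
  om : ∀ x y, Fts.om (g x) (g y) = Fts.om x y

section blk
variable {g : Fts k ≃ₗ[k] Fts k} (hg : IsIsom g) (h2 : (2 : k) ≠ 0) (h8 : g top = top) (e1 : g E1 = E1) (e2 : g E2 = E2)
  (e3 : g E3 = E3)

include hg h8 in
theorem be (x : Fts k) : (g x).be = x.be := by rw [← om_top, ← om_top, ← hg.om top x, h8]
include hg e1 in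
theorem Al1 (x : Fts k) : (g x).A.l1 = x.A.l1 := by rw [← om_E1, ← om_E1, ← hg.om E1 x, e1]
include hg e2 in
theorem Al2 (x : Fts k) : (g x).A.l2 = x.A.l2 := by rw [← om_E2, ← om_E2, ← hg.om E2 x, e2]
include hg e3 in
theorem Al3 (x : Fts k) : (g x).A.l3 = x.A.l3 := by rw [← om_E3, ← om_E3, ← hg.om E3 x, e3]

theorem c4 (h2 : (2 : k) ≠ 0) : (4 : k) ≠ 0 := by
  have : (4 : k) = 2 * 2 := by norm_num
  rw [this]
  exact mul_ne_zero h2 h2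

include hg h2 e1 e2 e3 in
theorem al (x : Fts k) : (g x).al = x.al := by
  apply mul_left_cancel₀ (c4 h2)
  rw [← f_EEE, ← f_EEE, ← hg.f E1 E2 E3 x, e1, e2, e3]

include hg h2 h8 e2 e3 in
theorem Bl1 (x : Fts k) : (g x).B.l1 = x.B.l1 := by
  apply mul_left_cancel₀ (c4 h2)
  rw [← f_top_EE1, ← f_top_EE1, ← hg.f top E2 E3 x, e2, e3, h8]

include hg h2 h8 e3 e1 in
theorem Bl2 (x : Fts k) : (g x).B.l2 = x.B.l2 := by
  apply mul_left_cancel₀ (c4 h2)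
  rw [← f_top_EE2, ← f_top_EE2, ← hg.f top E3 E1 x, e3, e1, h8]

include hg h2 h8 e1 e2 in
theorem Bl3 (x : Fts k) : (g x).B.l3 = x.B.l3 := by
  apply mul_left_cancel₀ (c4 h2)
  rw [← f_top_EE3, ← f_top_EE3, ← hg.f top E1 E2 x, e1, e2, h8]

include hg h2 h8 e1 e2 e3
theorem Bb1 (x y : Fts k) : Oct.bl (g x).B.a1 (g y).B.a1 = Oct.bl x.B.a1 y.B.a1 := by
  have h := hg.f top E1 x y
  rw [h8, e1, f_top_E1, f_top_E1, be hg h8, be hg h8, Al1 hg e1, Al1 hg e1, Bl2 hg h2 h8 e1 e3, Bl2 hg h2 h8 e1 e3, Bl3 hg h2 h8 e1 e2, Bl3 hg h2 h8 e1 e2] at h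
  apply mul_left_cancel₀ (c4 h2)
  linear_combination -h

theorem Ab1 (x y : Fts k) : Oct.bl (g x).A.a1 (g y).A.a1 = Oct.bl x.A.a1 y.A.a1 := by
  have h := hg.f E2 E3 x y
  rw [e2, e3, f_EE1, f_EE1, Al2 hg e2, Al2 hg e2, Al3 hg e3, Al3 hg e3, al hg h2 e1 e2 e3, al hg h2 e1 e2 e3,
    Bl1 hg h2 h8 e2 e3, Bl1 hg h2 h8 e2 e3] at h
  apply mul_left_cancel₀ (c4 h2)
  linear_combination h

theorem Bb2 (x y : Fts k) : Oct.bl (g x).B.a2 (g y).B.a2 = Oct.bl x.B.a2 y.B.a2 := by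
  have h := hg.f top E2 x y
  rw [h8, e2, f_top_E2, f_top_E2, be hg h8, be hg h8, Al2 hg e2, Al2 hg e2, Bl3 hg h2 h8 e1 e2, Bl3 hg h2 h8 e1 e2, Bl1 hg h2 h8 e2 e3, Bl1 hg h2 h8 e2 e3] at h
  apply mul_left_cancel₀ (c4 h2)
  linear_combination -h

theorem Ab2 (x y : Fts k) : Oct.bl (g x).A.a2 (g y).A.a2 = Oct.bl x.A.a2 y.A.a2 := by
  have h := hg.f E3 E1 x y
  rw [e3, e1, f_EE2, f_EE2, Al3 hg e3, Al3 hg e3, Al1 hg e1, Al1 hg e1, al hg h2 e1 e2 e3, al hg h2 e1 e2 e3,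
    Bl2 hg h2 h8 e1 e3, Bl2 hg h2 h8 e1 e3] at h
  apply mul_left_cancel₀ (c4 h2)
  linear_combination h

theorem Bb3 (x y : Fts k) : Oct.bl (g x).B.a3 (g y).B.a3 = Oct.bl x.B.a3 y.B.a3 := by
  have h := hg.f top E3 x y
  rw [h8, e3, f_top_E3, f_top_E3, be hg h8, be hg h8, Al3 hg e3, Al3 hg e3, Bl1 hg h2 h8 e2 e3, Bl1 hg h2 h8 e2 e3, Bl2 hg h2 h8 e1 e3, Bl2 hg h2 h8 e1 e3] at h
  apply mul_left_cancel₀ (c4 h2)
  linear_combination -h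

theorem Ab3 (x y : Fts k) : Oct.bl (g x).A.a3 (g y).A.a3 = Oct.bl x.A.a3 y.A.a3 := by
  have h := hg.f E1 E2 x y
  rw [e1, e2, f_EE3, f_EE3, Al1 hg e1, Al1 hg e1, Al2 hg e2, Al2 hg e2, al hg h2 e1 e2 e3, al hg h2 e1 e2 e3,
    Bl3 hg h2 h8 e1 e2, Bl3 hg h2 h8 e1 e2] at h
  apply mul_left_cancel₀ (c4 h2)
  linear_combination h


/-- the isometries fixing the four vectors are block diagonal -/
theorem block : ∃ s1 s2 s3 : Oct k →ₗ[k] Oct k, Tri 1 1 1 1 s1 s2 s3 ∧ ∀ x, g x = dgm s1 s2 s3 x := by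
  obtain ⟨a1, hA1, nA1⟩ := slot g pA1 jA1 (fun _ => rfl) (Ab1 hg h2 h8 e1 e2 e3)
  obtain ⟨a2, hA2, nA2⟩ := slot g pA2 jA2 (fun _ => rfl) (Ab2 hg h2 h8 e1 e2 e3)
  obtain ⟨a3, hA3, nA3⟩ := slot g pA3 jA3 (fun _ => rfl) (Ab3 hg h2 h8 e1 e2 e3)
  obtain ⟨b1, hB1, nB1⟩ := slot g pB1 jB1 (fun _ => rfl) (Bb1 hg h2 h8 e1 e2 e3)
  obtain ⟨b2, hB2, nB2⟩ := slot g pB2 jB2 (fun _ => rfl) (Bb2 hg h2 h8 e1 e2 e3)
  obtain ⟨b3, hB3, nB3⟩ := slot g pB3 jB3 (fun _ => rfl) (Bb3 hg h2 h8 e1 e2 e3)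
  replace hA1 : ∀ x, (g x).A.a1 = a1 x.A.a1 := hA1
  replace hA2 : ∀ x, (g x).A.a2 = a2 x.A.a2 := hA2
  replace hA3 : ∀ x, (g x).A.a3 = a3 x.A.a3 := hA3
  replace hB1 : ∀ x, (g x).B.a1 = b1 x.B.a1 := hB1
  replace hB2 : ∀ x, (g x).B.a2 = b2 x.B.a2 := hB2
  replace hB3 : ∀ x, (g x).B.a3 = b3 x.B.a3 := hB3
  have hN : ∀ s : Oct k →ₗ[k] Oct k, (∀ x y, Oct.bl (s x) (s y) = Oct.bl x y) → ∀ x, Oct.N (s x) = 1 * Oct.N x := by
    intro s hs x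
    have := hs x x
    rw [Oct.bl_self, Oct.bl_self] at this
    rw [one_mul]
    exact mul_left_cancel₀ h2 this
  have q1 : a1 = b1 := by
    apply LinearMap.ext
    intro a
    apply Oct.eq_of_bl
    intro z
    obtain ⟨b, rfl⟩ := Oct.surj_of_N one_ne_zero (hN b1 nB1) z
    have h := hg.om (jA1 a) (jB1 b)
    unfold Fts.om Alb.T at h
    rw [Al1 hg e1, Al2 hg e2, Al3 hg e3, Al1 hg e1, Al2 hg e2, Al3 hg e3, hA1, hA2, hA3, hA1, hA2, hA3, hB1, hB2, hB3, hB1, hB2, hB3,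
      be hg h8, be hg h8, al hg h2 e1 e2 e3, al hg h2 e1 e2 e3, Bl1 hg h2 h8 e2 e3, Bl2 hg h2 h8 e1 e3, Bl3 hg h2 h8 e1 e2,
      Bl1 hg h2 h8 e2 e3, Bl2 hg h2 h8 e1 e3, Bl3 hg h2 h8 e1 e2] at h
    simp only [jA1, jB1, LinearMap.coe_mk, AddHom.coe_mk, Alb.zero_l1, Alb.zero_l2, Alb.zero_l3, Alb.zero_a1, Alb.zero_a2, Alb.zero_a3,
      map_zero, Oct.bl_zero_left, Oct.bl_zero_right, mul_zero, zero_mul, add_zero, zero_add, zero_sub, sub_self, neg_inj] at h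
    rw [h, nB1]
  have q2 : a2 = b2 := by
    apply LinearMap.ext
    intro a
    apply Oct.eq_of_bl
    intro z
    obtain ⟨b, rfl⟩ := Oct.surj_of_N one_ne_zero (hN b2 nB2) z
    have h := hg.om (jA2 a) (jB2 b)
    unfold Fts.om Alb.T at h
    rw [Al1 hg e1, Al2 hg e2, Al3 hg e3, Al1 hg e1, Al2 hg e2, Al3 hg e3, hA1, hA2, hA3, hA1, hA2, hA3, hB1, hB2, hB3, hB1, hB2, hB3,
      be hg h8, be hg h8, al hg h2 e1 e2 e3, al hg h2 e1 e2 e3, Bl1 hg h2 h8 e2 e3, Bl2 hg h2 h8 e1 e3, Bl3 hg h2 h8 e1 e2,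
      Bl1 hg h2 h8 e2 e3, Bl2 hg h2 h8 e1 e3, Bl3 hg h2 h8 e1 e2] at h
    simp only [jA2, jB2, LinearMap.coe_mk, AddHom.coe_mk, Alb.zero_l1, Alb.zero_l2, Alb.zero_l3, Alb.zero_a1, Alb.zero_a2, Alb.zero_a3,
      map_zero, Oct.bl_zero_left, Oct.bl_zero_right, mul_zero, zero_mul, add_zero, zero_add, zero_sub, sub_self, neg_inj] at h
    rw [h, nB2]
  have q3 : a3 = b3 := by
    apply LinearMap.ext
    intro a
    apply Oct.eq_of_bl
    intro z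
    obtain ⟨b, rfl⟩ := Oct.surj_of_N one_ne_zero (hN b3 nB3) z
    have h := hg.om (jA3 a) (jB3 b)
    unfold Fts.om Alb.T at h
    rw [Al1 hg e1, Al2 hg e2, Al3 hg e3, Al1 hg e1, Al2 hg e2, Al3 hg e3, hA1, hA2, hA3, hA1, hA2, hA3, hB1, hB2, hB3, hB1, hB2, hB3,
      be hg h8, be hg h8, al hg h2 e1 e2 e3, al hg h2 e1 e2 e3, Bl1 hg h2 h8 e2 e3, Bl2 hg h2 h8 e1 e3, Bl3 hg h2 h8 e1 e2,
      Bl1 hg h2 h8 e2 e3, Bl2 hg h2 h8 e1 e3, Bl3 hg h2 h8 e1 e2] at h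
    simp only [jA3, jB3, LinearMap.coe_mk, AddHom.coe_mk, Alb.zero_l1, Alb.zero_l2, Alb.zero_l3, Alb.zero_a1, Alb.zero_a2, Alb.zero_a3,
      map_zero, Oct.bl_zero_left, Oct.bl_zero_right, mul_zero, zero_mul, add_zero, zero_add, zero_sub, sub_self, neg_inj] at h
    rw [h, nB3]
  subst q1 q2 q3
  have key : ∀ x, g x = dgm a1 a2 a3 x := by
    intro x
    apply Fts.ext
    · exact al hg h2 e1 e2 e3 x
    · exact Alb.ext (Al1 hg e1 x) (Al2 hg e2 x) (Al3 hg e3 x) (hA1 x) (hA2 x) (hA3 x)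
    · exact Alb.ext (Bl1 hg h2 h8 e2 e3 x) (Bl2 hg h2 h8 e1 e3 x) (Bl3 hg h2 h8 e1 e2 x) (hB1 x) (hB2 x) (hB3 x)
    · exact be hg h8 x
  refine ⟨a1, a2, a3, ⟨hN a1 nB1, hN a2 nB2, hN a3 nB3, fun x y z => ?_⟩, key⟩
  have h := hg.f top (jB1 x) (jB2 y) (jB3 z)
  rw [h8, key, key, key] at h
  unfold dgm at h
  simp only [jB1, jB2, jB3, LinearMap.coe_mk, AddHom.coe_mk, Alb.zero_l1, Alb.zero_l2, Alb.zero_l3, Alb.zero_a1, Alb.zero_a2,
    Alb.zero_a3, map_zero] at h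
  change Fts.f top ⟨0, 0, ⟨0, 0, 0, a1 x, 0, 0⟩, 0⟩ ⟨0, 0, ⟨0, 0, 0, 0, a2 y, 0⟩, 0⟩ ⟨0, 0, ⟨0, 0, 0, 0, 0, a3 z⟩, 0⟩ = _ at h
  rw [f_top_octs, f_top_octs] at h
  rw [one_mul]
  exact mul_left_cancel₀ (c4 h2) h

end blk

/-- a triple fixing the identity element is an automorphism -/
theorem aut_of_one {s1 s2 s3 : Oct k →ₗ[k] Oct k} (t : Tri 1 1 1 1 s1 s2 s3) (o1 : s1 1 = 1) (o2 : s2 1 = 1) (o3 : s3 1 = 1) :
    s2 = s1 ∧ s3 = s1 ∧ ∀ x y, s1 (x * y) = s1 x * s1 y := by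
  have hc : ∀ (s : Oct k →ₗ[k] Oct k), (∀ x, Oct.N (s x) = 1 * Oct.N x) → s 1 = 1 → ∀ y, s (Oct.cj y) = Oct.cj (s y) := by
    intro s hs h1 y
    have h3 := Oct.bl_of_N hs y 1
    rw [h1, Oct.bl_one, Oct.bl_one, one_mul] at h3
    rw [Oct.cj_eq, Oct.cj_eq, map_sub, map_smul, h1, h3]
  have key : ∀ {s1 s2 s3 : Oct k →ₗ[k] Oct k}, Tri 1 1 1 1 s1 s2 s3 → s1 1 = 1 → s2 1 = 1 → s3 1 = 1 → s2 = s1 := by
    intro s1 s2 s3 t o1 o2 o3
    apply LinearMap.ext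
    intro y
    have h := t.cj_mul one_ne_zero (Oct.cj y) 1
    rw [o3, mul_one, mul_one, div_one, one_smul, Oct.cj_cj, hc s2 t.N2 o2, Oct.cj_cj] at h
    exact h
  have e1 := key t o1 o2 o3
  have e2 := key t.rot o2 o3 o1
  subst e1
  subst e2
  refine ⟨rfl, rfl, fun x y => ?_⟩
  have h := t.cj_mul one_ne_zero x y
  rw [div_one, one_smul, hc _ t.N1 o1] at h
  have h' := congrArg Oct.cj h
  rw [Oct.cj_cj, Oct.cj_cj] at h'
  exact h'.symm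

end F

end Blk

end Cfsg.Agent.R2.PX
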