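import Mathlib
import Cfsg.Agent.R2.PX.Block

/-!
# Pattern X (S5771): the octonion algebra as a double of a quaternion algebra with given table (helper5)
-/

set_option autoImplicit false

namespace Cfsg.Agent.R2.PX

universe u

namespace Oct
variable {k : Type u} [Field k]

theorem cj_of_tr {x : Oct k} (h : tr x = 0) : cj x = -x := by rw [cj_eq, h, zero_smul, zero_sub]

theorem sq_of_tr {x : Oct k} (h : tr x = 0) : x * x = -(N x • (1 : Oct k)) := by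
  have h1 := mul_cj x
  rw [cj_of_tr h, mul_neg] at h1
  rw [← h1, neg_neg]

theorem e_mul {e w : Oct k} (te : tr e = 0) (h : bl e w = 0) : e * w = cj w * e := by
  have h1 := cj_mul_add e w
  rw [h, zero_smul, cj_of_tr te, neg_mul] at h1
  exact (neg_add_eq_zero.1 h1)

theorem mul_e {e w : Oct k} (te : tr e = 0) (h : bl e w = 0) : w * e = e * cj w := by
  have h1 := e_mul te (w := cj w) (by
    rw [← bl_cj_cj, cj_cj, cj_of_tr te, bl_neg_left, h, neg_zero])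
  rw [cj_cj] at h1
  exact h1.symm

/-- `x (e z) = e (cj x z)` -/
theorem x_ez {e x : Oct k} (te : tr e = 0) (h : bl e x = 0) (z : Oct k) : x * (e * z) = e * (cj x * z) := by
  have h1 := left_alt x e z
  rw [bl_comm, h, zero_smul, cj_of_tr te, neg_mul, mul_neg] at h1
  exact neg_add_eq_zero.1 h1

/-- `(z e) x = (z cj x) e` -/
theorem ze_x {e x : Oct k} (te : tr e = 0) (h : bl e x = 0) (z : Oct k) : (z * e) * x = (z * cj x) * e := by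
  have h1 := right_alt e x z
  rw [h, zero_smul, cj_of_tr te, mul_neg, neg_mul] at h1
  exact neg_add_eq_zero.1 h1

theorem sq_mul {e : Oct k} (te : tr e = 0) (z : Oct k) : e * (e * z) = -(N e • z) := by
  have h1 := mul_cj_mul e z
  rw [cj_of_tr te, neg_mul, mul_neg] at h1
  rw [← h1, neg_neg]

theorem mul_sq {e : Oct k} (te : tr e = 0) (z : Oct k) : (z * e) * e = -(N e • z) := by
  have h1 := mul_mul_cj e z
  rw [cj_of_tr te, mul_neg] at h1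
  rw [← h1, neg_neg]

/-- Cayley-Dickson formula -/
theorem eb_c {e b c : Oct k} (te : tr e = 0) (hb : bl e b = 0) (hc : bl e c = 0) (hcb : bl e (c * b) = 0) :
    (e * b) * c = e * (c * b) := by
  rw [e_mul te hb, ze_x te hc, ← cj_mul, ← e_mul te hcb]

theorem eb_ed {e b d : Oct k} (te : tr e = 0) (hd : bl e d = 0) (hbd : bl e (b * cj d) = 0) :
    (e * b) * (e * d) = -(N e • (d * cj b)) := by
  rw [e_mul te hd, moufang, e_mul te hbd, mul_sq te, cj_mul, cj_cj]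

end Oct

/-- the relations of the standard basis -/
structure Rel {k : Type u} [Field k] (ka : k) (e x1 x2 x3 : Oct k) : Prop where
  te : Oct.tr e = 0
  ne : Oct.N e = ka
  t1 : Oct.tr x1 = 0
  t2 : Oct.tr x2 = 0
  t3 : Oct.tr x3 = 0
  n1 : Oct.N x1 = 2
  n2 : Oct.N x2 = 2
  n3 : Oct.N x3 = 2
  b1 : Oct.bl e x1 = 0
  b2 : Oct.bl e x2 = 0
  b3 : Oct.bl e x3 = 0
  m21 : x2 * x1 = -1 + (3 : k) • x1 + (3 : k) • x2 + x3
  m32 : x3 * x2 = -1 + (3 : k) • x2 + (3 : k) • x3 + x1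
  m13 : x1 * x3 = -1 + (3 : k) • x3 + (3 : k) • x1 + x2

namespace Rel
variable {k : Type u} [Field k] {ka : k} {e x1 x2 x3 : Oct k}

/-- the rotation -/
theorem rot (h : Rel ka e x1 x2 x3) : Rel ka e x2 x3 x1 :=
  ⟨h.te, h.ne, h.t2, h.t3, h.t1, h.n2, h.n3, h.n1, h.b2, h.b3, h.b1, h.m32, h.m13, h.m21⟩

theorem m12 (h : Rel ka e x1 x2 x3) : x1 * x2 = -1 - (3 : k) • x1 - (3 : k) • x2 - x3 := by
  have h1 := congrArg Oct.cj h.m21
  rw [Oct.cj_mul, Oct.cj_add, Oct.cj_add, Oct.cj_add, Oct.cj_smul, Oct.cj_smul, Oct.cj_neg, Oct.cj_one, Oct.cj_of_tr h.t1,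
    Oct.cj_of_tr h.t2, Oct.cj_of_tr h.t3, neg_mul_neg] at h1
  rw [h1]
  module

theorem m11 (h : Rel ka e x1 x2 x3) : x1 * x1 = -((2 : k) • (1 : Oct k)) := by
  rw [Oct.sq_of_tr h.t1, h.n1]

theorem g12 (h : Rel ka e x1 x2 x3) : Oct.bl x1 x2 = 2 := by
  have h1 := congrArg Oct.tr h.m21
  rw [Oct.tr_mul, Oct.cj_of_tr h.t1, Oct.bl_neg_right, Oct.tr_add, Oct.tr_add, Oct.tr_add, Oct.tr_smul, Oct.tr_smul, Oct.tr_neg,
    Oct.tr_one, h.t1, h.t2, h.t3, mul_zero, add_zero, add_zero, add_zero, neg_inj, Oct.bl_comm] at h1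
  exact h1

/-- elements of the quaternion algebra -/
def H (x1 x2 x3 : Oct k) (a0 a1 a2 a3 : k) : Oct k := a0 • (1 : Oct k) + a1 • x1 + a2 • x2 + a3 • x3

theorem bl_e_H (h : Rel ka e x1 x2 x3) (a0 a1 a2 a3 : k) : Oct.bl e (H x1 x2 x3 a0 a1 a2 a3) = 0 := by
  unfold H
  rw [Oct.bl_add_right, Oct.bl_add_right, Oct.bl_add_right, Oct.bl_smul_right, Oct.bl_smul_right, Oct.bl_smul_right,
    Oct.bl_smul_right, Oct.bl_one, h.te, h.b1, h.b2, h.b3]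
  ring

theorem cj_H (h : Rel ka e x1 x2 x3) (a0 a1 a2 a3 : k) : Oct.cj (H x1 x2 x3 a0 a1 a2 a3) = H x1 x2 x3 a0 (-a1) (-a2) (-a3) := by
  unfold H
  rw [Oct.cj_add, Oct.cj_add, Oct.cj_add, Oct.cj_smul, Oct.cj_smul, Oct.cj_smul, Oct.cj_smul, Oct.cj_one, Oct.cj_of_tr h.t1,
    Oct.cj_of_tr h.t2, Oct.cj_of_tr h.t3]
  module

theorem N_H (h : Rel ka e x1 x2 x3) (a0 a1 a2 a3 : k) : Oct.N (H x1 x2 x3 a0 a1 a2 a3) =
    a0 ^ 2 + 2 * (a1 ^ 2 + a2 ^ 2 + a3 ^ 2) + 2 * (a1 * a2 + a2 * a3 + a3 * a1) := by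
  unfold H
  rw [Oct.N_add, Oct.N_add, Oct.N_add]
  simp only [Oct.bl_add_left, Oct.bl_smul_left, Oct.bl_smul_right, Oct.one_bl, Oct.N_smul, Oct.N_one, h.n1, h.n2, h.n3, h.t1, h.t2,
    h.t3, h.g12, h.rot.g12, Oct.bl_comm x1 x3, h.rot.rot.g12]
  ring

theorem H_mul (h : Rel ka e x1 x2 x3) (a0 a1 a2 a3 b0 b1 b2 b3 : k) : H x1 x2 x3 a0 a1 a2 a3 * H x1 x2 x3 b0 b1 b2 b3 =
    H x1 x2 x3
      (a0 * b0 - 2 * a1 * b1 - 2 * a2 * b2 - 2 * a3 * b3 - a2 * b1 - a1 * b2 - a3 * b2 - a2 * b3 - a1 * b3 - a3 * b1)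
      (a0 * b1 + a1 * b0 + 3 * (a2 * b1 - a1 * b2) + (a3 * b2 - a2 * b3) + 3 * (a1 * b3 - a3 * b1))
      (a0 * b2 + a2 * b0 + 3 * (a3 * b2 - a2 * b3) + (a1 * b3 - a3 * b1) + 3 * (a2 * b1 - a1 * b2))
      (a0 * b3 + a3 * b0 + 3 * (a1 * b3 - a3 * b1) + (a2 * b1 - a1 * b2) + 3 * (a3 * b2 - a2 * b3)) := by
  unfold H
  simp only [mul_add, add_mul, smul_mul_assoc, mul_smul_comm, one_mul, mul_one, h.m11, h.rot.m11, h.rot.rot.m11, h.m21, h.m32,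
    h.m13, h.m12, h.rot.m12, h.rot.rot.m12]
  module

/-- the parametrisation -/
def ph (e x1 x2 x3 : Oct k) : (Fin 8 → k) →ₗ[k] Oct k where
  toFun c := H x1 x2 x3 (c 0) (c 1) (c 2) (c 3) + e * H x1 x2 x3 (c 4) (c 5) (c 6) (c 7)
  map_add' c d := by
    unfold H
    simp only [Pi.add_apply, mul_add, mul_smul_comm]
    module
  map_smul' a c := by
    unfold H
    simp only [Pi.smul_apply, smul_eq_mul, mul_add, mul_smul_comm, RingHom.id_apply]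
    module

theorem ph_apply (c : Fin 8 → k) : ph e x1 x2 x3 c = H x1 x2 x3 (c 0) (c 1) (c 2) (c 3) + e * H x1 x2 x3 (c 4) (c 5) (c 6) (c 7) :=
  rfl

theorem N_ph (h : Rel ka e x1 x2 x3) (c : Fin 8 → k) : Oct.N (ph e x1 x2 x3 c) =
    (c 0 ^ 2 + 2 * (c 1 ^ 2 + c 2 ^ 2 + c 3 ^ 2) + 2 * (c 1 * c 2 + c 2 * c 3 + c 3 * c 1)) +
    ka * (c 4 ^ 2 + 2 * (c 5 ^ 2 + c 6 ^ 2 + c 7 ^ 2) + 2 * (c 5 * c 6 + c 6 * c 7 + c 7 * c 5)) := by
  rw [ph_apply, Oct.N_add, Oct.N_mul, h.ne, h.N_H, h.N_H, Oct.bl_comm, Oct.bl_mul_adj', h.cj_H, h.H_mul, h.bl_e_H]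
  ring

/-- the product -/
def mu (ka : k) (c d : Fin 8 → k) : Fin 8 → k :=
  let m0 := fun a0 a1 a2 a3 b0 b1 b2 b3 : k =>
    a0 * b0 - 2 * a1 * b1 - 2 * a2 * b2 - 2 * a3 * b3 - a2 * b1 - a1 * b2 - a3 * b2 - a2 * b3 - a1 * b3 - a3 * b1
  let m1 := fun a0 a1 a2 a3 b0 b1 b2 b3 : k =>
    a0 * b1 + a1 * b0 + 3 * (a2 * b1 - a1 * b2) + (a3 * b2 - a2 * b3) + 3 * (a1 * b3 - a3 * b1)
  let m2 := fun a0 a1 a2 a3 b0 b1 b2 b3 : k =>
    a0 * b2 + a2 * b0 + 3 * (a3 * b2 - a2 * b3) + (a1 * b3 - a3 * b1) + 3 * (a2 * b1 - a1 * b2)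
  let m3 := fun a0 a1 a2 a3 b0 b1 b2 b3 : k =>
    a0 * b3 + a3 * b0 + 3 * (a1 * b3 - a3 * b1) + (a2 * b1 - a1 * b2) + 3 * (a3 * b2 - a2 * b3)
  ![m0 (c 0) (c 1) (c 2) (c 3) (d 0) (d 1) (d 2) (d 3) - ka * m0 (d 4) (d 5) (d 6) (d 7) (c 4) (-(c 5)) (-(c 6)) (-(c 7)),
    m1 (c 0) (c 1) (c 2) (c 3) (d 0) (d 1) (d 2) (d 3) - ka * m1 (d 4) (d 5) (d 6) (d 7) (c 4) (-(c 5)) (-(c 6)) (-(c 7)),
    m2 (c 0) (c 1) (c 2) (c 3) (d 0) (d 1) (d 2) (d 3) - ka * m2 (d 4) (d 5) (d 6) (d 7) (c 4) (-(c 5)) (-(c 6)) (-(c 7)),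
    m3 (c 0) (c 1) (c 2) (c 3) (d 0) (d 1) (d 2) (d 3) - ka * m3 (d 4) (d 5) (d 6) (d 7) (c 4) (-(c 5)) (-(c 6)) (-(c 7)),
    m0 (c 0) (-(c 1)) (-(c 2)) (-(c 3)) (d 4) (d 5) (d 6) (d 7) + m0 (d 0) (d 1) (d 2) (d 3) (c 4) (c 5) (c 6) (c 7),
    m1 (c 0) (-(c 1)) (-(c 2)) (-(c 3)) (d 4) (d 5) (d 6) (d 7) + m1 (d 0) (d 1) (d 2) (d 3) (c 4) (c 5) (c 6) (c 7),
    m2 (c 0) (-(c 1)) (-(c 2)) (-(c 3)) (d 4) (d 5) (d 6) (d 7) + m2 (d 0) (d 1) (d 2) (d 3) (c 4) (c 5) (c 6) (c 7),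
    m3 (c 0) (-(c 1)) (-(c 2)) (-(c 3)) (d 4) (d 5) (d 6) (d 7) + m3 (d 0) (d 1) (d 2) (d 3) (c 4) (c 5) (c 6) (c 7)]

theorem H_add (a0 a1 a2 a3 b0 b1 b2 b3 : k) : H x1 x2 x3 a0 a1 a2 a3 + H x1 x2 x3 b0 b1 b2 b3 =
    H x1 x2 x3 (a0 + b0) (a1 + b1) (a2 + b2) (a3 + b3) := by
  unfold H
  module

theorem smul_H (c a0 a1 a2 a3 : k) : c • H x1 x2 x3 a0 a1 a2 a3 = H x1 x2 x3 (c * a0) (c * a1) (c * a2) (c * a3) := by
  unfold H
  module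

theorem H_sub (a0 a1 a2 a3 b0 b1 b2 b3 : k) : H x1 x2 x3 a0 a1 a2 a3 - H x1 x2 x3 b0 b1 b2 b3 =
    H x1 x2 x3 (a0 - b0) (a1 - b1) (a2 - b2) (a3 - b3) := by
  unfold H
  module

theorem ph_mul (h : Rel ka e x1 x2 x3) (c d : Fin 8 → k) : ph e x1 x2 x3 c * ph e x1 x2 x3 d = ph e x1 x2 x3 (mu ka c d) := by
  have key : ∀ A B C D : Oct k, Oct.bl e A = 0 → Oct.bl e B = 0 → Oct.bl e C = 0 → Oct.bl e D = 0 → Oct.bl e (C * B) = 0 →
      Oct.bl e (B * Oct.cj D) = 0 →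
      (A + e * B) * (C + e * D) = (A * C - ka • (D * Oct.cj B)) + e * (Oct.cj A * D + C * B) := by
    intro A B C D hA hB hC hD h1 h2
    rw [add_mul, mul_add, mul_add, Oct.x_ez h.te hA, Oct.eb_c h.te hB hC h1, Oct.eb_ed h.te hD h2, h.ne, mul_add]
    module
  rw [ph_apply, ph_apply, key _ _ _ _ (h.bl_e_H ..) (h.bl_e_H ..) (h.bl_e_H ..) (h.bl_e_H ..)
    (by rw [h.H_mul]; exact h.bl_e_H ..) (by rw [h.cj_H, h.H_mul]; exact h.bl_e_H ..), h.cj_H, h.cj_H, h.H_mul, h.H_mul,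
    h.H_mul, h.H_mul, smul_H, H_sub, H_add, ph_apply]
  rfl

theorem ph_inj (h : Rel ka e x1 x2 x3) (hk : ka ≠ 0) (h5 : (5 : k) = 0) : Function.Injective (ph e x1 x2 x3) := by
  have h2 : (2 : k) ≠ 0 := by
    intro h2
    have : (1 : k) = 0 := by linear_combination h5 - 2 * h2
    exact one_ne_zero this
  rw [injective_iff_map_eq_zero]
  intro c hc
  have key : ∀ d, Oct.N (ph e x1 x2 x3 (c + d)) = Oct.N (ph e x1 x2 x3 d) := by
    intro d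
    rw [map_add, hc, zero_add]
  have hN := fun d => key d
  simp only [h.N_ph, Pi.add_apply] at hN
  have z0 := hN 0
  have z1 := hN ![1, 0, 0, 0, 0, 0, 0, 0]
  have z2 := hN ![0, 1, 0, 0, 0, 0, 0, 0]
  have z3 := hN ![0, 0, 1, 0, 0, 0, 0, 0]
  have z4 := hN ![0, 0, 0, 1, 0, 0, 0, 0]
  have z5 := hN ![0, 0, 0, 0, 1, 0, 0, 0]
  have z6 := hN ![0, 0, 0, 0, 0, 1, 0, 0]
  have z7 := hN ![0, 0, 0, 0, 0, 0, 1, 0]
  have z8 := hN ![0, 0, 0, 0, 0, 0, 0, 1]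
  simp only [Pi.zero_apply, Matrix.cons_val] at z0 z1 z2 z3 z4 z5 z6 z7 z8
  have y1 : c 0 = 0 := mul_left_cancel₀ h2 (by linear_combination z1 - z0)
  have y2 : 4 * c 1 + 2 * c 2 + 2 * c 3 = 0 := by linear_combination z2 - z0
  have y3 : 2 * c 1 + 4 * c 2 + 2 * c 3 = 0 := by linear_combination z3 - z0
  have y4 : 2 * c 1 + 2 * c 2 + 4 * c 3 = 0 := by linear_combination z4 - z0
  have y5 : c 4 = 0 := mul_left_cancel₀ hk (mul_left_cancel₀ h2 (by linear_combination z5 - z0))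
  have y6 : 4 * c 5 + 2 * c 6 + 2 * c 7 = 0 := mul_left_cancel₀ hk (by linear_combination z6 - z0)
  have y7 : 2 * c 5 + 4 * c 6 + 2 * c 7 = 0 := mul_left_cancel₀ hk (by linear_combination z7 - z0)
  have y8 : 2 * c 5 + 2 * c 6 + 4 * c 7 = 0 := mul_left_cancel₀ hk (by linear_combination z8 - z0)
  have sol : ∀ a b c : k, 4 * a + 2 * b + 2 * c = 0 → 2 * a + 4 * b + 2 * c = 0 → 2 * a + 2 * b + 4 * c = 0 → a = 0 := by
    intro a b c g1 g2 g3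
    linear_combination 2 * (3 * g1 - g2 - g3) - 3 * a * h5
  funext i
  fin_cases i
  · exact y1
  · exact sol (c 1) (c 2) (c 3) (by linear_combination y2) (by linear_combination y3) (by linear_combination y4)
  · exact sol (c 2) (c 3) (c 1) (by linear_combination y3) (by linear_combination y4) (by linear_combination y2)
  · exact sol (c 3) (c 1) (c 2) (by linear_combination y4) (by linear_combination y2) (by linear_combination y3)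
  · exact y5
  · exact sol (c 5) (c 6) (c 7) (by linear_combination y6) (by linear_combination y7) (by linear_combination y8)
  · exact sol (c 6) (c 7) (c 5) (by linear_combination y7) (by linear_combination y8) (by linear_combination y6)
  · exact sol (c 7) (c 5) (c 6) (by linear_combination y8) (by linear_combination y6) (by linear_combination y7)

/-- the parametrisation as an equivalence -/
noncomputable def eqv (h : Rel ka e x1 x2 x3) (hk : ka ≠ 0) (h5 : (5 : k) = 0) : (Fin 8 → k) ≃ₗ[k] Oct k :=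
  LinearEquiv.ofBijective (ph e x1 x2 x3) ⟨h.ph_inj hk h5, by
    rw [← LinearMap.range_eq_top]
    apply Submodule.eq_top_of_finrank_eq
    rw [LinearMap.finrank_range_of_inj (h.ph_inj hk h5), Oct.finrank_Oct, Module.finrank_fin_fun]⟩

theorem eqv_apply (h : Rel ka e x1 x2 x3) (hk : ka ≠ 0) (h5 : (5 : k) = 0) (c : Fin 8 → k) : h.eqv hk h5 c = ph e x1 x2 x3 c := rfl

/-- nondegeneracy in terms of the basis -/
theorem eq_zero (h : Rel ka e x1 x2 x3) (hk : ka ≠ 0) (h5 : (5 : k) = 0) {z : Oct k} (z0 : Oct.bl z 1 = 0) (z1 : Oct.bl z x1 = 0)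
    (z2 : Oct.bl z x2 = 0) (z3 : Oct.bl z x3 = 0) (z4 : Oct.bl z e = 0) (z5 : Oct.bl z (e * x1) = 0) (z6 : Oct.bl z (e * x2) = 0)
    (z7 : Oct.bl z (e * x3) = 0) : z = 0 := by
  apply Oct.eq_zero_of_bl
  intro y
  obtain ⟨c, rfl⟩ := (h.eqv hk h5).surjective y
  rw [eqv_apply, ph_apply]
  unfold H
  simp only [mul_add, mul_smul_comm, Oct.bl_add_right, Oct.bl_smul_right, mul_one, z0, z1, z2, z3, z4, z5, z6, z7, mul_zero, add_zero]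

/-- two systems satisfying the relations are conjugate -/
theorem conj {f y1 y2 y3 : Oct k} (h : Rel ka e x1 x2 x3) (h' : Rel ka f y1 y2 y3) (hk : ka ≠ 0) (h5 : (5 : k) = 0) :
    ∃ s : Oct k →ₗ[k] Oct k, Tri 1 1 1 1 s s s ∧ (∀ x y, s (x * y) = s x * s y) ∧ s 1 = 1 ∧ s e = f ∧ s x1 = y1 ∧ s x2 = y2 ∧
      s x3 = y3 := by
  let s : Oct k →ₗ[k] Oct k := ((h.eqv hk h5).symm.trans (h'.eqv hk h5) : Oct k ≃ₗ[k] Oct k)
  have hs : ∀ c, s (ph e x1 x2 x3 c) = ph f y1 y2 y3 c := by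
    intro c
    show (h'.eqv hk h5) ((h.eqv hk h5).symm (ph e x1 x2 x3 c)) = _
    rw [← eqv_apply h hk h5, LinearEquiv.symm_apply_apply, eqv_apply]
  have sur : ∀ x, ∃ c, ph e x1 x2 x3 c = x := fun x => (h.eqv hk h5).surjective x
  have hm : ∀ x y, s (x * y) = s x * s y := by
    intro x y
    obtain ⟨c, rfl⟩ := sur x
    obtain ⟨d, rfl⟩ := sur y
    rw [h.ph_mul, hs, hs, hs, h'.ph_mul]
  have hN : ∀ x, Oct.N (s x) = 1 * Oct.N x := by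
    intro x
    obtain ⟨c, rfl⟩ := sur x
    rw [hs, h.N_ph, h'.N_ph, one_mul]
  have ev : ∀ (f y1 y2 y3 : Oct k), ph f y1 y2 y3 ![1, 0, 0, 0, 0, 0, 0, 0] = 1 ∧ ph f y1 y2 y3 ![0, 0, 0, 0, 1, 0, 0, 0] = f ∧
      ph f y1 y2 y3 ![0, 1, 0, 0, 0, 0, 0, 0] = y1 ∧ ph f y1 y2 y3 ![0, 0, 1, 0, 0, 0, 0, 0] = y2 ∧
      ph f y1 y2 y3 ![0, 0, 0, 1, 0, 0, 0, 0] = y3 := by
    intro f y1 y2 y3
    simp only [ph_apply, H, Matrix.cons_val]
    refine ⟨?_, ?_, ?_, ?_, ?_⟩ <;> simp only [zero_smul, one_smul, add_zero, zero_add, mul_zero, mul_one]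
  obtain ⟨a0, a1, a2, a3, a4⟩ := ev e x1 x2 x3
  obtain ⟨b0, b1, b2, b3, b4⟩ := ev f y1 y2 y3
  have s0 : s 1 = 1 := by
    have := hs ![1, 0, 0, 0, 0, 0, 0, 0]
    rwa [a0, b0] at this
  refine ⟨s, ⟨hN, hN, hN, fun x y z => ?_⟩, hm, s0, ?_, ?_, ?_, ?_⟩
  · unfold Oct.tr3
    rw [← hm, ← hm, ← Oct.bl_one, ← Oct.bl_one, one_mul]
    conv_lhs => rw [← s0]
    rw [Oct.bl_of_N hN, one_mul]
  · have := hs ![0, 0, 0, 0, 1, 0, 0, 0]
    rwa [a1, b1] at this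
  · have := hs ![0, 1, 0, 0, 0, 0, 0, 0]
    rwa [a2, b2] at this
  · have := hs ![0, 0, 1, 0, 0, 0, 0, 0]
    rwa [a3, b3] at this
  · have := hs ![0, 0, 0, 1, 0, 0, 0, 0]
    rwa [a4, b4] at this

end Rel

end Cfsg.Agent.R2.PX
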