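import Mathlib
import Cfsg.Agent.R2.PX.Rel

/-!
# Pattern X (S5771): the octonion normal form (helper5)
-/

set_option autoImplicit false

namespace Cfsg.Agent.R2.PX

universe u

namespace Stp
variable {k : Type u} [Field k]

/-- automorphisms -/
structure Auto (s : Oct k →ₗ[k] Oct k) : Prop where
  m : ∀ x y, s (x * y) = s x * s y
  n : ∀ x, Oct.N (s x) = 1 * Oct.N x
  o : s 1 = 1

namespace Auto
variable {s : Oct k →ₗ[k] Oct k}

theorem bl (h : Auto s) (x y : Oct k) : Oct.bl (s x) (s y) = Oct.bl x y := by rw [Oct.bl_of_N h.n, one_mul]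

theorem tr (h : Auto s) (x : Oct k) : Oct.tr (s x) = Oct.tr x := by
  rw [← Oct.bl_one, ← Oct.bl_one]
  conv_lhs => rw [← h.o]
  rw [h.bl]

theorem nn (h : Auto s) (x : Oct k) : Oct.N (s x) = Oct.N x := by rw [h.n, one_mul]

theorem perp_tr (h : Auto s) (h3 : (3 : k) ≠ 0) {x : Oct k} (hx : x + s x + s (s x) = 0) : Oct.tr x = 0 := by
  have h1 := congrArg Oct.tr hx
  rw [Oct.tr_add, Oct.tr_add, h.tr, h.tr, h.tr, Oct.tr_zero] at h1
  exact mul_left_cancel₀ h3 (by linear_combination h1)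

theorem perp_e (h : Auto s) (h3 : (3 : k) ≠ 0) {e x : Oct k} (he : s e = e) (hx : x + s x + s (s x) = 0) : Oct.bl e x = 0 := by
  have h1 := congrArg (Oct.bl e) hx
  have h2 : ∀ y, Oct.bl e (s y) = Oct.bl e y := by
    intro y
    have := h.bl e y
    rwa [he] at this
  rw [Oct.bl_add_right, Oct.bl_add_right, h2, h2, h2, Oct.bl_zero_right] at h1
  exact mul_left_cancel₀ h3 (by linear_combination h1)

theorem omega (hs : Auto s) (h5 : (5 : k) = 0) (h3 : (3 : k) ≠ 0) {ka : k} {e x : Oct k} (te : Oct.tr e = 0) (ne : Oct.N e = ka)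
    (he : s e = e) (fix : ∀ z, s z = z → ∃ a b : k, z = a • (1 : Oct k) + b • e) (hx : x + s x + s (s x) = 0)
    (hn : Oct.N x ≠ 0) : ∃ c : k, s x = (2 : k) • x + c • (e * x) ∧ c ^ 2 * ka = 2 := by
  have tx := hs.perp_tr h3 hx
  have bx := hs.perp_e h3 he hx
  have hsx : Oct.tr (s x) = 0 := by rw [hs.tr, tx]
  have hss : s (s x) = -(x + s x) := eq_neg_of_add_eq_zero_right hx
  have hb : Oct.bl x (s x) = -Oct.N x := by
    have h1 : Oct.N (s (s x)) = Oct.N x := by rw [hs.nn, hs.nn]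
    rw [hss, Oct.N_neg, Oct.N_add, hs.nn] at h1
    linear_combination h1
  have hz : s (x * s x) = x * s x := by
    have e1 := Oct.mul_cj_add x (s x)
    rw [Oct.cj_of_tr hsx, Oct.cj_of_tr tx, hb, mul_neg, mul_neg] at e1
    rw [hs.m, hss, mul_neg, mul_add, Oct.sq_of_tr hsx, hs.nn]
    have e2 : x * s x = Oct.N x • (1 : Oct k) - s x * x := by
      have : -(x * s x) = (-Oct.N x) • (1 : Oct k) + s x * x := by rw [← e1]; abel
      rw [← neg_neg (x * s x), this, neg_smul]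
      abel
    rw [e2]
    abel
  obtain ⟨a, b, hab⟩ := fix _ hz
  have ha : 2 * a = Oct.N x := by
    have h1 := congrArg Oct.tr hab
    rw [Oct.tr_mul, Oct.cj_of_tr hsx, Oct.bl_neg_right, hb, Oct.tr_add, Oct.tr_smul, Oct.tr_smul, Oct.tr_one, te] at h1
    linear_combination -h1
  have hxe : x * e = -(e * x) := by rw [Oct.mul_e te bx, Oct.cj_of_tr tx, mul_neg]
  have h6 := Oct.cj_mul_mul x (s x)
  rw [hab, Oct.cj_of_tr tx, mul_add, mul_smul_comm, mul_smul_comm, mul_one, neg_mul, hxe, neg_neg] at h6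
  have h7 : s x = (2 : k) • x + (b / Oct.N x) • (e * x) := by
    have h7 : Oct.N x • s x = Oct.N x • ((2 : k) • x + (b / Oct.N x) • (e * x)) := by
      rw [← h6, smul_add, smul_smul, smul_smul, mul_div_cancel₀ _ hn, smul_neg, ← neg_smul]
      congr 2
      linear_combination -a * h5 + 2 * ha
    exact smul_right_injective _ hn h7
  refine ⟨b / Oct.N x, h7, ?_⟩
  have h8 := congrArg Oct.N h7
  have h9 : Oct.bl x (e * x) = 0 := by
    rw [Oct.bl_comm, Oct.bl_mul_adj', Oct.mul_cj, Oct.bl_smul_right, Oct.bl_one, te, mul_zero]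
  rw [hs.nn, Oct.N_add, Oct.N_smul, Oct.N_smul, Oct.N_mul, ne, Oct.bl_smul_left, Oct.bl_smul_right, h9] at h8
  apply mul_left_cancel₀ hn
  linear_combination -h8 - Oct.N x * h5

end Auto


/-- the data of step 6 -/
structure Dat (ka : k) (s g : Oct k →ₗ[k] Oct k) (p a1 a2 a3 p1 p2 p3 : Oct k) : Prop where
  hs : Auto s
  hg : Auto g
  s3 : ∀ x, s (s (s x)) = x
  sg : ∀ x, s (g x) = g (s x)
  sp : s p = p
  gp : g p = p
  fix : ∀ z, s z = z → ∃ a b : k, z = a • (1 : Oct k) + b • p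
  tp : Oct.tr p = 0
  np : Oct.N p = -ka
  na : Oct.N a1 = 1
  ga1 : g a1 = a2
  ga2 : g a2 = a3
  ga3 : g a3 = a1
  a23 : Oct.cj (a2 * a3) = a1
  a31 : Oct.cj (a3 * a1) = a2
  a12 : Oct.cj (a1 * a2) = a3
  sa : a1 + s a1 + s (s a1) = -1
  npi : Oct.N p1 = -ka
  gp1 : g p1 = p2
  gp2 : g p2 = p3
  gp3 : g p3 = p1
  p23 : Oct.cj (p2 * p3) = ka • a1
  spi : p1 + s p1 + s (s p1) = -p
  T1 : Oct.bl p1 a1 + Oct.bl p2 a2 + Oct.bl p3 a3 = 0
  T2 : Oct.bl p1 (s a1) + Oct.bl p2 (s a2) + Oct.bl p3 (s a3) = Oct.bl (s p1) a1 + Oct.bl (s p2) a2 + Oct.bl (s p3) a3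

theorem three_ne (h5 : (5 : k) = 0) : (3 : k) ≠ 0 := by
  intro h3
  have : (1 : k) = 0 := by linear_combination 2 * h3 - h5
  exact one_ne_zero this

theorem two_ne (h5 : (5 : k) = 0) : (2 : k) ≠ 0 := by
  intro h3
  have : (1 : k) = 0 := by linear_combination h5 - 2 * h3
  exact one_ne_zero this

namespace Dat
variable {ka : k} {s g : Oct k →ₗ[k] Oct k} {p a1 a2 a3 p1 p2 p3 : Oct k}

theorem rot (h : Dat ka s g p a1 a2 a3 p1 p2 p3) : Dat ka s g p a2 a3 a1 p2 p3 p1 where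
  hs := h.hs
  hg := h.hg
  s3 := h.s3
  sg := h.sg
  sp := h.sp
  gp := h.gp
  fix := h.fix
  tp := h.tp
  np := h.np
  na := by rw [← h.ga1, h.hg.nn, h.na]
  ga1 := h.ga2
  ga2 := h.ga3
  ga3 := h.ga1
  a23 := h.a31
  a31 := h.a12
  a12 := h.a23
  sa := by
    have h1 := congrArg g h.sa
    rwa [map_add, map_add, map_neg, h.hg.o, ← h.sg, ← h.sg, h.ga1, ← h.sg, h.ga1] at h1
  npi := by rw [← h.gp1, h.hg.nn, h.npi]
  gp1 := h.gp2
  gp2 := h.gp3
  gp3 := h.gp1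
  p23 := by
    have h1 := congrArg g h.p23
    have hc : ∀ y, g (Oct.cj y) = Oct.cj (g y) := by
      intro y
      rw [Oct.cj_eq, Oct.cj_eq, map_sub, map_smul, h.hg.o, h.hg.tr]
    rwa [hc, h.hg.m, h.gp2, h.gp3, map_smul, h.ga1] at h1
  spi := by
    have h1 := congrArg g h.spi
    rwa [map_add, map_add, map_neg, h.gp, ← h.sg, ← h.sg, h.gp1, ← h.sg, h.gp1] at h1
  T1 := by rw [← h.T1]; ring
  T2 := by linear_combination h.T2

end Dat

end Stp

end Cfsg.Agent.R2.PX
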