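import Mathlib
import Cfsg.Agent.R2.PX.Stp

/-!
# Pattern X (S5771): the octonion normal form, second part (helper5)
-/

set_option autoImplicit false

namespace Cfsg.Agent.R2.PX

universe u

namespace Stp
variable {k : Type u} [Field k]

theorem bl_e_ex {e : Oct k} (w : Oct k) (hw : Oct.tr w = 0) : Oct.bl e (e * w) = 0 := by
  have h := Oct.bl_mul_left e 1 w
  rw [mul_one, Oct.one_bl, hw, mul_zero] at h
  exact h

theorem tr_ex {e : Oct k} {w : Oct k} (te : Oct.tr w = 0) (hw : Oct.bl e w = 0) : Oct.tr (e * w) = 0 := by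
  rw [Oct.tr_mul, Oct.cj_of_tr te, Oct.bl_neg_right, hw, neg_zero]

theorem d_eq_c {s : Oct k →ₗ[k] Oct k} (hs : Auto s) (h5 : (5 : k) = 0) {ka c d : k} (hk : ka ≠ 0) (hd : d ^ 2 * ka = 2)
    {e x y z : Oct k} (se : s e = e) (te : Oct.tr e = 0) (ne : Oct.N e = ka) (tx : Oct.tr x = 0) (bx : Oct.bl e x = 0)
    (nx : Oct.N x = 2) (ty : Oct.tr y = 0) (b_y : Oct.bl e y = 0) (tz : Oct.tr z = 0) (bz : Oct.bl e z = 0)
    (E : z * y = -(ka • (1 : Oct k)) + ka • x + e * (z - y)) (sx : s x = (2 : k) • x + c • (e * x))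
    (sy : s y = (2 : k) • y + d • (e * y)) (sz : s z = (2 : k) • z + d • (e * z)) : d = c := by
  set W : Oct k := ka • x + e * (z - y) with hW
  have tzy : Oct.tr (z - y) = 0 := by rw [Oct.tr_sub, ty, tz, sub_zero]
  have bzy : Oct.bl e (z - y) = 0 := by rw [Oct.bl_sub_right, b_y, bz, sub_zero]
  have tW : Oct.tr W = 0 := by rw [hW, Oct.tr_add, Oct.tr_smul, tx, tr_ex tzy bzy, mul_zero, add_zero]
  have bW : Oct.bl e W = 0 := by rw [hW, Oct.bl_add_right, Oct.bl_smul_right, bx, bl_e_ex _ tzy, mul_zero, add_zero]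
  have E' : z * y = -(ka • (1 : Oct k)) + W := by rw [E, hW, add_assoc]
  have ee : e * e = -(ka • (1 : Oct k)) := by rw [Oct.sq_of_tr te, ne]
  have p1 : z * (e * y) = -(e * (z * y)) := by rw [Oct.x_ez te bz, Oct.cj_of_tr tz, neg_mul, mul_neg]
  have p2 : (e * z) * y = (z * y) * e := by
    rw [Oct.e_mul te bz, Oct.ze_x te b_y, Oct.cj_of_tr tz, Oct.cj_of_tr ty, neg_mul_neg]
  have p3 : (e * z) * (e * y) = -(e * ((z * y) * e)) := by
    rw [Oct.x_ez te (bl_e_ex z tz), Oct.cj_of_tr (tr_ex tz bz), neg_mul, mul_neg, p2]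
  have q1 : e * (z * y) = -(ka • e) + e * W := by rw [E', mul_add, mul_neg, mul_smul_comm, mul_one]
  have q2 : (z * y) * e = -(ka • e) - e * W := by
    rw [E', add_mul, neg_mul, smul_mul_assoc, one_mul, Oct.mul_e te bW, Oct.cj_of_tr tW, mul_neg, sub_eq_add_neg]
  have q3 : e * ((z * y) * e) = (ka * ka) • (1 : Oct k) + ka • W := by
    rw [q2, mul_sub, mul_neg, mul_smul_comm, ee, Oct.sq_mul te, ne]
    module
  have l : s (z * y) = (4 : k) • (z * y) + (2 * d) • (-(e * (z * y)) + (z * y) * e) - (d ^ 2) • (e * ((z * y) * e)) := by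
    rw [hs.m, sz, sy, add_mul, mul_add, mul_add, smul_mul_smul_comm, smul_mul_smul_comm, smul_mul_smul_comm, smul_mul_smul_comm,
      p1, p2, p3]
    module
  have r : s (z * y) = -(ka • (1 : Oct k)) + (2 : k) • W + (c * ka) • (e * x) + d • (e * (e * (z - y))) := by
    rw [E, map_add, map_add, map_neg, map_smul, map_smul, hs.o, hs.m, se, map_sub, sx, sy, sz, hW]
    simp only [mul_sub, mul_add, mul_smul_comm]
    module
  have eW : e * W = ka • (e * x) + e * (e * (z - y)) := by rw [hW, mul_add, mul_smul_comm]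
  rw [l, q3, q1, q2, E'] at r
  have key : ((d - c) * ka) • (e * x) = 0 := by
    linear_combination (norm := module) r - d • eW + (ka • hd) • (1 : Oct k) + hd • W + (ka • h5) • (1 : Oct k) + (d • h5) • (e * W)
  have hne : e * x ≠ 0 := by
    intro h0
    have h1 := Oct.N_mul e x
    rw [h0, Oct.N_zero, ne, nx] at h1
    exact mul_ne_zero hk (two_ne h5) h1.symm
  have h1 := (smul_eq_zero.1 key).resolve_right hne
  exact sub_eq_zero.1 ((mul_eq_zero.1 h1).resolve_right hk)

end Stp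

end Cfsg.Agent.R2.PX
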